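import Cfsg.Agent.Lib.FourFixed58.Quotient

/-!
# The abelian case
-/

set_option autoImplicit false

namespace Cfsg.Agent.Lib.FourFixed58

namespace IsFourFixed

variable {T : Type*} [Group T] [Finite T] {τ ρ : MulAut T} (h : IsFourFixed τ ρ)
include h

/-- An abelian group with an involution outside the fixed points is elementary of order 16. -/
theorem omega_le_or (hab : ∀ a b : T, a * b = b * a) :
    (∀ x : T, x * x = 1 → x ∈ Fix τ) ∨ (Nat.card T = 16 ∧ ∀ x : T, x * x = 1) := by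
  classical
  refine or_iff_not_imp_left.mpr fun hnot => ?_
  push Not at hnot
  obtain ⟨e, he2, heF⟩ := hnot
  haveI := h.fix_normal
  have hne : Fix τ ≠ ⊤ := fun e0 => heF (e0 ▸ Subgroup.mem_top _)
  obtain ⟨τ', ρ', h', hτ', hρ'⟩ := h.exists_quotient hne
  set m := QuotientGroup.mk' (Fix τ)
  let E : Subgroup T :=
    { carrier := {x | x * x = 1}
      one_mem' := by simp
      mul_mem' := fun {a b} ha hb => by
        show a * b * (a * b) = 1
        rw [mul_assoc, ← mul_assoc b, hab b a, mul_assoc a b b, show b * b = 1 from hb, mul_one]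
        exact ha
      inv_mem' := fun {a} ha => by
        show a⁻¹ * a⁻¹ = 1
        rw [← mul_inv_rev, show a * a = 1 from ha, inv_one] }
  have hW : Fix τ' ≤ E.map m := by
    refine h'.fix_le ?_ ?_ ?_
    · rintro _ ⟨x, hx, rfl⟩
      exact ⟨τ x, show τ x * τ x = 1 by rw [← map_mul, show x * x = 1 from hx, map_one],
        (hτ' x).symm⟩
    · rintro _ ⟨x, hx, rfl⟩
      exact ⟨ρ x, show ρ x * ρ x = 1 by rw [← map_mul, show x * x = 1 from hx, map_one],
        (hρ' x).symm⟩
    · intro hb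
      refine heF ((QuotientGroup.eq_one_iff e).mp ?_)
      exact Subgroup.mem_bot.mp (hb ▸ (⟨e, he2, rfl⟩ : m e ∈ E.map m))
  -- every element fixed modulo the fixed points is an involution
  have hW2 : ∀ w : T, w⁻¹ * τ w ∈ Fix τ → w * w = 1 := by
    intro w hw
    have hwf : m w ∈ Fix τ' := by
      rw [mem_Fix]; exact (hτ' w).trans (QuotientGroup.eq.mpr hw).symm
    obtain ⟨x, hx, hxw⟩ := hW hwf
    have hv : x⁻¹ * w ∈ Fix τ := QuotientGroup.eq.mp hxw
    have e1 : w = x * (x⁻¹ * w) := by group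
    rw [e1]
    exact E.mul_mem hx (show _ * _ = 1 from h.sq_eq_one hv)
  obtain ⟨w₀, hw₀, hw₀F⟩ : ∃ w : T, w⁻¹ * τ w ∈ Fix τ ∧ w ∉ Fix τ := by
    obtain ⟨u, hu, hu1⟩ := h'.exists_ne_one
    obtain ⟨w, rfl⟩ := QuotientGroup.mk_surjective u
    rw [mem_Fix, hτ', eq_comm, QuotientGroup.eq] at hu
    exact ⟨w, hu, fun hw => hu1 ((QuotientGroup.eq_one_iff w).mpr hw)⟩
  -- every fixed point is a commutator with `τ`
  have hdsur : ∀ v ∈ Fix τ, ∃ w : T, w⁻¹ * τ w = v := by
    intro v hv
    have hu1 : w₀⁻¹ * τ w₀ ≠ 1 := fun e0 => hw₀F (inv_mul_eq_one.mp e0).symm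
    rcases h.fix_cases hw₀ hu1 hv with rfl | rfl | rfl | rfl
    · exact ⟨1, by simp⟩
    · exact ⟨w₀, rfl⟩
    · exact ⟨ρ w₀, by rw [h.comm, map_mul, map_inv]⟩
    · exact ⟨ρ (ρ w₀), by simp only [h.comm, map_mul, map_inv]⟩
  -- the inverted elements
  let g : T →* T :=
    { toFun := fun x => x * τ x
      map_one' := by simp
      map_mul' := fun x y => by
        show x * y * τ (x * y) = x * τ x * (y * τ y)
        rw [map_mul, mul_assoc, ← mul_assoc y, hab y (τ x)]
        simp only [mul_assoc] }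
  have hgF : g.range ≤ Fix τ := by
    rintro _ ⟨x, rfl⟩
    show τ (x * τ x) = x * τ x
    rw [map_mul, h.inv, hab]
  have hKF : ∀ y ∈ g.ker, y * y = 1 → y ∈ Fix τ := fun y hy h2 => by
    have e1 : τ y = y⁻¹ := eq_inv_of_mul_eq_one_right hy
    rw [mem_Fix, e1, inv_eq_of_mul_eq_one_right h2]
  have hK2 : ∀ y ∈ g.ker, y * y = 1 := by
    by_contra hcon
    push Not at hcon
    obtain ⟨y, hy, hy2⟩ := hcon
    obtain ⟨k, hk⟩ := IsPGroup.iff_orderOf.mp h.pgroup y
    obtain ⟨j, rfl⟩ : ∃ j, k = j + 2 := by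
      refine ⟨k - 2, ?_⟩
      by_contra hlt
      refine hy2 ?_
      rw [← pow_two, ← orderOf_dvd_iff_pow_eq_one, hk]
      exact (pow_dvd_pow 2 (show k ≤ 1 by omega)).trans (by norm_num)
    set z := y ^ 2 ^ j with hz
    have hzK : z ∈ g.ker := g.ker.pow_mem hy _
    have hz1 : z * z ≠ 1 := by
      rw [hz, ← pow_add, ← two_mul, ← pow_succ']
      intro e0
      have := Nat.le_of_dvd (by positivity) (orderOf_dvd_of_pow_eq_one e0)
      rw [hk, pow_succ 2 (j + 1)] at this
      have : 0 < 2 ^ (j + 1) := by positivity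
      omega
    have hz2 : z * z * (z * z) = 1 := by
      rw [hz, ← pow_add, ← pow_add, ← orderOf_dvd_iff_pow_eq_one, hk]
      exact dvd_of_eq (by ring)
    have hzz : z * z ∈ Fix τ := hKF _ (g.ker.mul_mem hzK hzK) hz2
    obtain ⟨w, hw⟩ := hdsur _ hzz
    have hτz : τ z = z⁻¹ := eq_inv_of_mul_eq_one_right hzK
    have hfix : z * w ∈ Fix τ := by
      rw [mem_Fix, map_mul, hτz, show τ w = w * (z * z) by rw [← hw, mul_inv_cancel_left],
        hab w (z * z)]
      group
    refine hz1 (hW2 z ?_)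
    have e1 : z⁻¹ * τ z = (z * z)⁻¹ := by rw [hτz, mul_inv_rev]
    rw [e1]
    exact (Fix τ).inv_mem hzz
  have hKle : g.ker ≤ Fix τ := fun y hy => hKF y hy (hK2 y hy)
  have hcard : Nat.card T ≤ 16 := by
    rw [Subgroup.card_eq_card_quotient_mul_card_subgroup g.ker,
      Nat.card_congr (QuotientGroup.quotientKerEquivRange g).toEquiv]
    calc Nat.card g.range * Nat.card g.ker ≤ Nat.card (Fix τ) * Nat.card (Fix τ) :=
          Nat.mul_le_mul (Subgroup.card_le_of_le hgF) (Subgroup.card_le_of_le hKle)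
      _ = 16 := by rw [h.card_fix]
  have hcT := Subgroup.card_eq_card_quotient_mul_card_subgroup (Fix τ)
  rw [show Nat.card (Fix τ) = 4 from h.card_fix] at hcT
  have hq : 4 ≤ Nat.card (T ⧸ Fix τ) := by
    rw [← h'.card_fix]; exact Subgroup.card_le_card_group _
  refine ⟨by omega, fun x => hW2 x ?_⟩
  have htop : Fix τ' = ⊤ := by
    refine Subgroup.eq_top_of_le_card _ ?_
    rw [show Nat.card (Fix τ') = 4 from h'.card_fix]
    omega
  have := mem_Fix.mp (htop ▸ Subgroup.mem_top (x : T ⧸ Fix τ) : (x : T ⧸ Fix τ) ∈ Fix τ')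
  rwa [hτ', eq_comm, QuotientGroup.eq] at this

/-- An abelian group without involutions outside the fixed points is homocyclic of rank two. -/
theorem exists_basis (hab : ∀ a b : T, a * b = b * a) (hΩ : ∀ x : T, x * x = 1 → x ∈ Fix τ) :
    ∃ (a : T) (n : ℕ), 1 ≤ n ∧ orderOf a = 2 ^ n ∧
      ∀ x : T, ∃! p : ↥(Subgroup.zpowers a) × ↥(Subgroup.zpowers (ρ a)), (p.1 : T) * p.2 = x := by
  classical
  haveI := h.nontrivial
  obtain ⟨a, ha⟩ := Finite.exists_max (fun x : T => orderOf x)
  obtain ⟨n, hn⟩ := IsPGroup.iff_orderOf.mp h.pgroup a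
  have hn1 : 1 ≤ n := by
    by_contra hlt
    obtain ⟨x, hx⟩ := exists_ne (1 : T)
    have h1 := ha x
    simp only [hn, show n = 0 by omega, pow_zero] at h1
    exact hx (orderOf_eq_one_iff.mp (le_antisymm h1 (orderOf_pos x)))
  have hexp : ∀ x : T, x ^ 2 ^ n = 1 := fun x => by
    obtain ⟨k, hk⟩ := IsPGroup.iff_orderOf.mp h.pgroup x
    have h1 := ha x
    simp only [hn, hk] at h1
    rw [← orderOf_dvd_iff_pow_eq_one, hk]
    exact pow_dvd_pow 2 ((Nat.pow_le_pow_iff_right (by norm_num)).mp h1)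
  letI : CommGroup T := { (inferInstance : Group T) with mul_comm := hab }
  -- the order is at most `4 ^ n`
  have hle : ∀ m, Nat.card (powMonoidHom (2 ^ m) : T →* T).ker ≤ 4 ^ m := by
    intro m
    induction m with
    | zero =>
      have : (powMonoidHom (2 ^ 0) : T →* T).ker = ⊥ := by ext x; simp
      rw [this, Subgroup.card_bot, pow_zero]
    | succ m ih =>
      set K := (powMonoidHom (2 ^ (m + 1)) : T →* T).ker
      let s : K →* (powMonoidHom (2 ^ m) : T →* T).ker :=
        ((powMonoidHom 2).comp K.subtype).codRestrict _ fun x => by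
          show ((x : T) ^ 2) ^ 2 ^ m = 1
          rw [← pow_mul, ← pow_succ']
          exact x.2
      rw [Subgroup.card_eq_card_quotient_mul_card_subgroup s.ker, pow_succ]
      refine Nat.mul_le_mul ?_ ?_
      · refine le_trans (le_of_eq (Nat.card_congr (QuotientGroup.quotientKerEquivRange s).toEquiv)) ?_
        exact (Subgroup.card_le_card_group _).trans ih
      · refine le_trans ?_ h.card_fix.le
        refine Nat.card_le_card_of_injective (fun x : s.ker => (⟨((x : K) : T), hΩ _ ?_⟩ : Fix τ)) ?_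
        · have h1 := congrArg Subtype.val (MonoidHom.mem_ker.mp x.2)
          simpa [s, pow_two] using h1
        · intro x y hxy
          simp only [Subtype.mk.injEq] at hxy
          exact Subtype.ext (Subtype.ext hxy)
  have hcardT : Nat.card T ≤ 4 ^ n := by
    refine le_trans (le_of_eq ?_) (hle n)
    rw [show (powMonoidHom (2 ^ n) : T →* T).ker = ⊤ from eq_top_iff.mpr fun x _ => hexp x]
    simp
  let ψ : ↥(Subgroup.zpowers a) × ↥(Subgroup.zpowers (ρ a)) →* T :=
    MonoidHom.coprod (Subgroup.zpowers a).subtype (Subgroup.zpowers (ρ a)).subtype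
  have hψ : Function.Injective ψ := by
    rw [injective_iff_map_eq_one]
    rintro ⟨⟨x, hx⟩, ⟨y, hy⟩⟩ hxy
    simp only [ψ, MonoidHom.coprod_apply, Subgroup.subtype_apply] at hxy
    have hxy' : x = y⁻¹ := eq_inv_of_mul_eq_one_left hxy
    suffices hx1 : x = 1 by
      subst hx1
      simp only [one_mul] at hxy
      subst hxy
      rfl
    by_contra hx1
    obtain ⟨k, hk⟩ := IsPGroup.iff_orderOf.mp h.pgroup x
    obtain ⟨j, rfl⟩ : ∃ j, k = j + 1 :=
      Nat.exists_eq_succ_of_ne_zero fun e0 => hx1 (orderOf_eq_one_iff.mp (by rw [hk, e0, pow_zero]))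
    set u := x ^ 2 ^ j with hu
    have hu1 : u ≠ 1 := fun e0 => by
      have := Nat.le_of_dvd (by positivity) (orderOf_dvd_of_pow_eq_one e0)
      rw [hk, pow_succ] at this
      have : 0 < 2 ^ j := by positivity
      omega
    have hu2 : u * u = 1 := by
      rw [hu, ← pow_add, ← two_mul, ← pow_succ', ← hk, pow_orderOf_eq_one]
    obtain ⟨n', rfl⟩ : ∃ n', n = n' + 1 := ⟨n - 1, by omega⟩
    have huniq : ∀ b z : T, orderOf b = 2 ^ (n' + 1) → z ≠ 1 → z * z = 1 →
        z ∈ Subgroup.zpowers b → z = b ^ 2 ^ n' := by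
      intro b z hb hu1 hu2 hub
      obtain ⟨k, rfl⟩ := Subgroup.mem_zpowers_iff.mp hub
      rw [← zpow_add, ← orderOf_dvd_iff_zpow_eq_one, hb] at hu2
      obtain ⟨c, hc⟩ := hu2
      push_cast [pow_succ] at hc
      have hk2 : k = 2 ^ n' * c := by linarith
      rw [hk2, zpow_mul, show ((2 : ℤ) ^ n') = ((2 ^ n' : ℕ) : ℤ) by push_cast; rfl, zpow_natCast]
      rcases Int.even_or_odd' c with ⟨d, rfl | rfl⟩
      · exfalso
        refine hu1 ?_
        rw [hk2, ← orderOf_dvd_iff_zpow_eq_one, hb]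
        exact ⟨d, by push_cast; ring⟩
      · rw [zpow_add_one, zpow_mul]
        have : (b ^ 2 ^ n') ^ (2 : ℤ) = 1 := by
          rw [zpow_two, ← pow_add, ← two_mul, ← pow_succ', ← hb, pow_orderOf_eq_one]
        rw [this, one_zpow, one_mul]
    have hua := huniq a u hn hu1 hu2 (Subgroup.pow_mem _ hx _)
    have hub := huniq (ρ a) u ((MulEquiv.orderOf_eq ρ a).trans hn) hu1 hu2 <| by
      rw [hu, hxy']; exact Subgroup.pow_mem _ (Subgroup.inv_mem _ hy) _
    rw [← map_pow, ← hua] at hub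
    exact hu1 (h.rho_fpf hub.symm)
  have hsur : Function.Surjective ψ := by
    refine (hψ.bijective_of_nat_card_le ?_).2
    rw [Nat.card_prod, Nat.card_zpowers, Nat.card_zpowers, MulEquiv.orderOf_eq, hn, ← mul_pow]
    exact hcardT
  refine ⟨a, n, hn1, hn, fun x => ?_⟩
  obtain ⟨p, hp⟩ := hsur x
  exact ⟨p, hp, fun q hq => hψ (hq.trans hp.symm)⟩

end IsFourFixed

end Cfsg.Agent.Lib.FourFixed58
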