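import Mathlib

/-!
# 2-groups with an involutory automorphism fixing four elements

`τ` is an automorphism with `τ² = 1` and exactly four fixed points, `ρ` a commuting automorphism
with `ρ³ = 1` without common fixed points with `τ`.
-/

set_option autoImplicit false

namespace Cfsg.Agent.Lib.FourFixed58

open scoped commutatorElement

variable {T : Type*} [Group T]

/-- The standing hypothesis. -/
structure IsFourFixed (τ ρ : MulAut T) : Prop where
  pgroup : IsPGroup 2 T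
  inv : ∀ x, τ (τ x) = x
  cube : ∀ x, ρ (ρ (ρ x)) = x
  comm : ∀ x, τ (ρ x) = ρ (τ x)
  card_fix : Nat.card ↥((τ : T →* T).eqLocus (MonoidHom.id T)) = 4
  fpf : ∀ x, τ x = x → ρ x = x → x = 1

/-- The fixed points of `τ`. -/
abbrev Fix (τ : MulAut T) : Subgroup T := (τ : T →* T).eqLocus (MonoidHom.id T)

theorem mem_Fix {τ : MulAut T} {x : T} : x ∈ Fix τ ↔ τ x = x := Iff.rfl

/-- A nontrivial stable subgroup of a 2-group has a nontrivial fixed point of an involution. -/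
theorem exists_fixed {τ : MulAut T} (hp : IsPGroup 2 T) (hinv : ∀ x, τ (τ x) = x) {X : Subgroup T}
    (hX : ∀ x ∈ X, τ x ∈ X) (hne : X ≠ ⊥) : ∃ x ∈ X, x ≠ 1 ∧ τ x = x := by
  obtain ⟨x, hx, hx1⟩ := (Subgroup.bot_or_exists_ne_one X).resolve_left hne
  by_cases hfix : τ x = x
  · exact ⟨x, hx, hx1, hfix⟩
  set y := x⁻¹ * τ x with hy
  have hyX : y ∈ X := X.mul_mem (X.inv_mem hx) (hX x hx)
  have hy1 : y ≠ 1 := fun h => hfix (inv_mul_eq_one.mp h).symm
  have hτy : τ y = y⁻¹ := by simp [hy, hinv]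
  obtain ⟨k, hk⟩ := IsPGroup.iff_orderOf.mp hp y
  cases k with
  | zero => exact absurd (orderOf_eq_one_iff.mp (by simpa using hk)) hy1
  | succ k =>
    refine ⟨y ^ 2 ^ k, X.pow_mem hyX _, ?_, ?_⟩
    · intro h
      have := Nat.le_of_dvd (by positivity) (orderOf_dvd_of_pow_eq_one h)
      rw [hk, pow_succ] at this
      have : 0 < 2 ^ k := by positivity
      omega
    · rw [map_pow, hτy, inv_pow]
      refine inv_eq_of_mul_eq_one_right ?_
      rw [← pow_add, ← two_mul, ← pow_succ', ← hk, pow_orderOf_eq_one]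

namespace IsFourFixed

variable {τ ρ : MulAut T} (h : IsFourFixed τ ρ)
include h

theorem rho_mem_fix {x : T} (hx : x ∈ Fix τ) : ρ x ∈ Fix τ := by
  rw [mem_Fix, h.comm, mem_Fix.mp hx]

theorem pow_four {x : T} (hx : x ∈ Fix τ) : x ^ 4 = 1 := by
  have : (⟨x, hx⟩ : Fix τ) ^ 4 = 1 := by rw [← h.card_fix]; exact pow_card_eq_one'
  exact congrArg Subtype.val this

theorem orbit_distinct {x : T} (hx : x ∈ Fix τ) (hx1 : x ≠ 1) :
    ρ x ≠ x ∧ ρ (ρ x) ≠ x ∧ ρ (ρ x) ≠ ρ x := by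
  refine ⟨fun e => hx1 (h.fpf x hx e), fun e => hx1 (h.fpf x hx ?_), fun e => hx1 ?_⟩
  · conv_rhs => rw [← h.cube x]
    rw [e]
  · exact h.fpf x hx (ρ.injective e)

/-- The fixed points are the identity and one `ρ`-orbit. -/
theorem fix_cases {v x : T} (hv : v ∈ Fix τ) (hv1 : v ≠ 1) (hx : x ∈ Fix τ) :
    x = 1 ∨ x = v ∨ x = ρ v ∨ x = ρ (ρ v) := by
  classical
  by_contra hcon
  push Not at hcon
  obtain ⟨h0, h1, h2, h3⟩ := hcon
  obtain ⟨d1, d2, d3⟩ := h.orbit_distinct hv hv1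
  have r1 : ρ v ≠ 1 := by simpa using hv1
  have r2 : ρ (ρ v) ≠ 1 := by simpa using hv1
  have hfin : Finite (Fix τ) := Nat.finite_of_card_ne_zero (by rw [h.card_fix]; norm_num)
  have : Fintype (Fix τ) := Fintype.ofFinite _
  let e : Fin 5 → Fix τ := ![1, ⟨v, hv⟩, ⟨ρ v, h.rho_mem_fix hv⟩,
    ⟨ρ (ρ v), h.rho_mem_fix (h.rho_mem_fix hv)⟩, ⟨x, hx⟩]
  have he : Function.Injective e := by
    intro i j hij
    rw [Subtype.ext_iff] at hij
    fin_cases i <;> fin_cases j <;>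
      first | rfl | (simp [e, hv1, h0, h1, h2, h3, d1, d2, d3, r1, r2, hv1.symm, Ne.symm h0,
        Ne.symm h1, Ne.symm h2, Ne.symm h3, d1.symm, d2.symm, d3.symm, r1.symm, r2.symm] at hij)
  have := Fintype.card_le_of_injective e he
  rw [Fintype.card_fin, ← Nat.card_eq_fintype_card, h.card_fix] at this
  omega

theorem sq_eq_one {x : T} (hx : x ∈ Fix τ) : x * x = 1 := by
  by_contra hne
  have hy : x * x ∈ Fix τ := (Fix τ).mul_mem hx hx
  have hy2 : (x * x) * (x * x) = 1 := by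
    rw [← mul_assoc]; simpa [pow_succ, mul_assoc] using h.pow_four hx
  rcases h.fix_cases hy hne hx with e | e | e | e
  · exact hne (by rw [e, one_mul])
  · exact hne (by rw [mul_eq_left.mp e.symm, one_mul])
  · exact hne ((congrArg (fun t => t * t) e).trans (by simp only [← map_mul, hy2, map_one]))
  · exact hne ((congrArg (fun t => t * t) e).trans (by simp only [← map_mul, hy2, map_one]))

/-- A nontrivial stable subgroup contains all the fixed points. -/
theorem fix_le {X : Subgroup T} (hτ : ∀ x ∈ X, τ x ∈ X) (hρ : ∀ x ∈ X, ρ x ∈ X) (hne : X ≠ ⊥) :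
    Fix τ ≤ X := by
  obtain ⟨v, hvX, hv1, hv⟩ := exists_fixed h.pgroup h.inv hτ hne
  intro x hx
  rcases h.fix_cases hv hv1 hx with rfl | rfl | rfl | rfl
  exacts [X.one_mem, hvX, hρ _ hvX, hρ _ (hρ _ hvX)]

theorem exists_ne_one : ∃ v ∈ Fix τ, v ≠ 1 := by
  refine (Subgroup.bot_or_exists_ne_one (Fix τ)).resolve_left fun e => ?_
  have := h.card_fix
  rw [show (τ : T →* T).eqLocus (MonoidHom.id T) = ⊥ from e, Subgroup.card_bot] at this
  omega

theorem nontrivial : Nontrivial T :=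
  let ⟨v, _, hv⟩ := h.exists_ne_one
  ⟨⟨v, 1, hv⟩⟩

theorem fix_le_center [Finite T] : Fix τ ≤ Subgroup.center T := by
  haveI := h.nontrivial
  refine h.fix_le ?_ ?_ h.pgroup.bot_lt_center.ne'
  all_goals
    intro x hx
    rw [Subgroup.mem_center_iff] at hx ⊢
    intro g
  · obtain ⟨g, rfl⟩ := τ.surjective g
    rw [← map_mul, hx, map_mul]
  · obtain ⟨g, rfl⟩ := ρ.surjective g
    rw [← map_mul, hx, map_mul]

/-- `ρ` has no fixed points. -/
theorem rho_fpf {x : T} (hx : ρ x = x) : x = 1 := by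
  by_contra hne
  set X := (ρ : T →* T).eqLocus (MonoidHom.id T)
  have hτ : ∀ y ∈ X, τ y ∈ X := fun y (hy : ρ y = y) => by
    show ρ (τ y) = τ y
    rw [← h.comm, hy]
  have hne' : X ≠ ⊥ := fun e => hne (by simpa [e] using (show x ∈ X from hx))
  obtain ⟨y, hy, hy1, hyτ⟩ := exists_fixed h.pgroup h.inv hτ hne'
  exact hy1 (h.fpf y hyτ hy)

theorem prod_orbit_eq_one {x : T} (h1 : Commute x (ρ x)) (h2 : Commute x (ρ (ρ x))) :
    x * ρ x * ρ (ρ x) = 1 := by
  refine h.rho_fpf ?_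
  rw [map_mul, map_mul, h.cube]
  exact ((h1.mul_right h2).eq.trans rfl).symm.trans (by rw [mul_assoc])

end IsFourFixed

end Cfsg.Agent.Lib.FourFixed58
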