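import Cfsg.Agent.Lib.FourFixed58.Nonabelian
import Cfsg.Agent.Lib.FourFixed58.Abelian

/-!
# The classification
-/

set_option autoImplicit false

namespace Cfsg.Agent.Lib.FourFixed58

open Golay (Quad)
open scoped commutatorElement

universe u

variable {T : Type u} [Group T]

/-- A group generated by pairwise commuting elements is commutative. -/
theorem commute_closure {S : Set T} (h : ∀ x ∈ S, ∀ y ∈ S, Commute x y) {x y : T}
    (hx : x ∈ Subgroup.closure S) (hy : y ∈ Subgroup.closure S) : Commute x y := by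
  have h1 : Subgroup.closure S ≤ Subgroup.centralizer S := (Subgroup.closure_le _).mpr fun a ha =>
    Subgroup.mem_centralizer_iff.mpr fun b hb => (h b hb a ha).eq
  have h2 : Subgroup.closure S ≤ Subgroup.centralizer (Subgroup.closure S : Set T) :=
    (Subgroup.closure_le _).mpr fun a ha =>
      Subgroup.mem_centralizer_iff.mpr fun b hb =>
        ((Subgroup.mem_centralizer_iff.mp (h1 hb)) a ha).symm
  exact (Subgroup.mem_centralizer_iff.mp (h2 hy)) x hx

/-- The identity behind the three subgroups lemma. -/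
theorem hall_witt (x y z : T) :
    ⁅z, ⁅x, y⁆⁆ = x * z * ⁅y, ⁅z⁻¹, x⁻¹⁆⁆⁻¹ * z⁻¹ * y * ⁅x⁻¹, ⁅y⁻¹, z⁆⁆⁻¹ * y⁻¹ * x⁻¹ := by
  simp [commutatorElement_def, mul_assoc]

namespace IsFourFixed

variable [Finite T] {τ ρ : MulAut T} (h : IsFourFixed τ ρ)
include h

/-- A nonabelian quotient of order 64 does not extend. -/
theorem no_extension [(Fix τ).Normal] {τ' ρ' : MulAut (T ⧸ Fix τ)} (h' : IsFourFixed τ' ρ')
    (hτ' : ∀ x : T, τ' (x : T ⧸ Fix τ) = ((τ x : T) : T ⧸ Fix τ))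
    (hρ' : ∀ x : T, ρ' (x : T ⧸ Fix τ) = ((ρ x : T) : T ⧸ Fix τ))
    (hsq : ∀ u : T ⧸ Fix τ, u * u ∈ Fix τ') (h64 : Nat.card (T ⧸ Fix τ) = 64)
    (hna : ¬ ∀ a b : T ⧸ Fix τ, a * b = b * a) : False := by
  classical
  haveI := h'.fix_normal
  set m := QuotientGroup.mk' (Fix τ) with hm
  have hmρ : ∀ x : T, m (ρ x) = ρ' (m x) := fun x => (hρ' x).symm
  have hmem : ∀ x : T, m x = 1 → x ∈ Fix τ := fun x => (QuotientGroup.eq_one_iff x).mp
  set W : Subgroup T := (Fix τ').comap m with hW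
  have hFW : Fix τ ≤ W := fun x hx => by
    rw [hW, Subgroup.mem_comap, show m x = 1 from (QuotientGroup.eq_one_iff x).mpr hx]
    exact one_mem _
  have hWρ : ∀ w ∈ W, ρ w ∈ W := fun w hw => by
    rw [hW, Subgroup.mem_comap, hmρ]; exact h'.rho_mem_fix hw
  have hT : ∀ x ∈ (⊤ : Subgroup T), ρ x ∈ (⊤ : Subgroup T) := fun _ _ => Subgroup.mem_top _
  have hTW : ∀ x ∈ (⊤ : Subgroup T), ∀ w ∈ W, ⁅x, w⁆ ∈ Fix τ := fun x _ w hw => hmem _ <| by
    rw [map_commutatorElement, commutatorElement_eq_one_iff_commute]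
    exact (h'.central hw (m x)).symm
  have hWorb : ∀ w ∈ W, w * ρ w * ρ (ρ w) ∈ Fix τ := fun w hw => hmem _ <| by
    rw [map_mul, map_mul, hmρ, hmρ, hmρ]
    exact h'.prod_orbit_eq_one (h'.central hw _) (h'.central hw _)
  -- `W` is abelian
  have hWab : ∀ x ∈ W, ∀ y ∈ W, Commute x y := by
    obtain ⟨u, hu, hu1⟩ := h'.exists_ne_one
    obtain ⟨w, rfl⟩ := QuotientGroup.mk'_surjective (Fix τ) u
    set S : Set T := {w, ρ w, ρ (ρ w)} ∪ (Fix τ : Set T)
    have hr : ∀ x ∈ W, Commute x (ρ x) := fun x hx => by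
      have h1 := (h.rule hWρ hWρ (fun a _ b hb => hTW a (Subgroup.mem_top _) b hb)
        (fun a ha b _ => h.comm_central_eq_one (hWorb a ha))
        (fun a _ b hb => commutatorElement_eq_one_iff_commute.mpr (h.central (hWorb b hb) a).symm)
        hx hx).2
      rw [commutatorElement_self, map_one, map_one] at h1
      exact commutatorElement_eq_one_iff_commute.mp h1
    have hS : ∀ x ∈ S, ∀ y ∈ S, Commute x y := by
      have c1 := hr w hu
      have c2 := hr (ρ w) (hWρ _ hu)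
      have c3 : Commute (ρ (ρ w)) w := by
        have := hr (ρ (ρ w)) (hWρ _ (hWρ _ hu))
        rwa [h.cube] at this
      rintro x ((rfl | rfl | rfl) | hx) y ((rfl | rfl | rfl) | hy)
      all_goals first
        | exact Commute.refl _
        | exact h.central hx _
        | exact (h.central hy _).symm
        | exact c1
        | exact c1.symm
        | exact c2
        | exact c2.symm
        | exact c3
        | exact c3.symm
    have hle : W ≤ Subgroup.closure S := fun x hx => by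
      have key : ∀ y ∈ Subgroup.closure S, m x = m y → x ∈ Subgroup.closure S := fun y hy e => by
        have e' : y⁻¹ * x ∈ Fix τ := hmem _ (by rw [map_mul, map_inv, e, inv_mul_cancel])
        rw [show x = y * (y⁻¹ * x) by group]
        exact mul_mem hy (Subgroup.subset_closure (Or.inr e'))
      rcases h'.fix_cases hu hu1 hx with e | e | e | e
      · exact key 1 (one_mem _) (e.trans (map_one m).symm)
      · exact key w (Subgroup.subset_closure (Or.inl (Or.inl rfl))) e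
      · exact key (ρ w) (Subgroup.subset_closure (Or.inl (Or.inr (Or.inl rfl))))
          (e.trans (hmρ w).symm)
      · refine key (ρ (ρ w)) (Subgroup.subset_closure (Or.inl (Or.inr (Or.inr rfl)))) (e.trans ?_)
        rw [hmρ, hmρ]
    exact fun x hx y hy => commute_closure hS (hle hx) (hle hy)
  have hTorb : ∀ x : T, x * ρ x * ρ (ρ x) ∈ W := fun x => by
    rw [hW, Subgroup.mem_comap, map_mul, map_mul, hmρ, hmρ, hmρ]; exact h'.orbit_mem hsq (m x)
  have hrule : ∀ x w : T, w ∈ W →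
      ⁅ρ x, w⁆ = ρ (ρ ⁅x, w⁆) ∧ ⁅x, ρ w⁆ = ρ (ρ ⁅x, w⁆) := fun x w hw =>
    h.rule hT hWρ hTW
      (fun a _ b hb => commutatorElement_eq_one_iff_commute.mpr (hWab _ (hTorb a) b hb))
      (fun a _ b hb => commutatorElement_eq_one_iff_commute.mpr (h.central (hWorb b hb) a).symm)
      (Subgroup.mem_top x) hw
  have hrule' : ∀ a b : T ⧸ Fix τ, ⁅ρ' a, b⁆ = ρ' (ρ' ⁅a, b⁆) ∧ ⁅a, ρ' b⁆ = ρ' (ρ' ⁅a, b⁆) :=
    fun a b => h'.rule (X := ⊤) (Y := ⊤) (fun _ _ => Subgroup.mem_top _)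
      (fun _ _ => Subgroup.mem_top _) (fun x _ y _ => h'.comm_mem hsq x y)
      (fun x _ y _ => h'.comm_central_eq_one (h'.orbit_mem hsq x))
      (fun x _ y _ => commutatorElement_eq_one_iff_commute.mpr
        ((h'.central (h'.orbit_mem hsq y) x).symm)) (Subgroup.mem_top a) (Subgroup.mem_top b)
  have hcW : ∀ x y : T, ⁅x, y⁆ ∈ W := fun x y => by
    rw [hW, Subgroup.mem_comap, map_commutatorElement]; exact h'.comm_mem hsq _ _
  -- values depend only on the class modulo the fixed points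
  have hcongr : ∀ a w w' : T, m w = m w' → ⁅a, w⁆ = ⁅a, w'⁆ := fun a w w' e => by
    have hv : w'⁻¹ * w ∈ Fix τ := hmem _ (by rw [map_mul, map_inv, e, inv_mul_cancel])
    have hv1 : ⁅a, w'⁻¹ * w⁆ = 1 :=
      commutatorElement_eq_one_iff_commute.mpr (h.central hv a).symm
    conv_lhs => rw [show w = w' * (w'⁻¹ * w) by group]
    rw [comm_mul_right (hv1 ▸ one_mem _), hv1, mul_one]
  have hinvL : ∀ a w : T, w ∈ W → ⁅a⁻¹, w⁆ = ⁅a, w⁆ := fun a w hw => by
    have h1 : ⁅a * a⁻¹, w⁆ = ⁅a, w⁆ * ⁅a⁻¹, w⁆ :=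
      comm_mul_left (h.fix_le_center (hTW _ (Subgroup.mem_top _) w hw))
    rw [mul_inv_cancel, commutatorElement_one_left, eq_comm, mul_eq_one_iff_eq_inv'] at h1
    rw [h1]; exact inv_eq_of_mul_eq_one_right (h.sq_eq_one (hTW _ (Subgroup.mem_top _) w hw))
  have hinv' : ∀ a b : T ⧸ Fix τ, ⁅a⁻¹, b⁆ = ⁅a, b⁆ ∧ ⁅a, b⁻¹⁆ = ⁅a, b⁆ := fun a b => by
    have hs : ∀ c ∈ Fix τ', c⁻¹ = c := fun c hc => inv_eq_of_mul_eq_one_right (h'.sq_eq_one hc)
    constructor
    · have h1 : ⁅a * a⁻¹, b⁆ = ⁅a, b⁆ * ⁅a⁻¹, b⁆ :=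
        comm_mul_left (h'.fix_le_center (h'.comm_mem hsq _ _))
      rw [mul_inv_cancel, commutatorElement_one_left, eq_comm, mul_eq_one_iff_eq_inv'] at h1
      rw [h1, hs _ (h'.comm_mem hsq _ _)]
    · have h1 : ⁅a, b * b⁻¹⁆ = ⁅a, b⁆ * ⁅a, b⁻¹⁆ :=
        comm_mul_right (h'.fix_le_center (h'.comm_mem hsq _ _))
      rw [mul_inv_cancel, commutatorElement_one_right, eq_comm, mul_eq_one_iff_eq_inv'] at h1
      rw [h1, hs _ (h'.comm_mem hsq _ _)]
  -- the Jacobi identity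
  have hJ : ∀ x y z : T, ⁅z, ⁅x, y⁆⁆ = ⁅y, ⁅z, x⁆⁆ * ⁅x, ⁅y, z⁆⁆ := fun x y z => by
    have e1 : ⁅y, ⁅z⁻¹, x⁻¹⁆⁆ = ⁅y, ⁅z, x⁆⁆ := hcongr _ _ _ (by
      rw [map_commutatorElement, map_commutatorElement, map_inv, map_inv, (hinv' _ _).1,
        (hinv' _ _).2])
    have e2 : ⁅x⁻¹, ⁅y⁻¹, z⁆⁆ = ⁅x, ⁅y, z⁆⁆ := by
      rw [hinvL x _ (hcW _ _)]
      exact hcongr _ _ _ (by rw [map_commutatorElement, map_commutatorElement, map_inv, (hinv' _ _).1])
    rw [hall_witt, e1, e2]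
    have c1 := hTW y (Subgroup.mem_top _) _ (hcW z x)
    have c2 := hTW x (Subgroup.mem_top _) _ (hcW y z)
    rw [inv_eq_of_mul_eq_one_right (h.sq_eq_one c1), inv_eq_of_mul_eq_one_right (h.sq_eq_one c2)]
    set A := ⁅y, ⁅z, x⁆⁆
    set B := ⁅x, ⁅y, z⁆⁆
    calc x * z * A * z⁻¹ * y * B * y⁻¹ * x⁻¹ = x * (z * A) * z⁻¹ * (y * B) * y⁻¹ * x⁻¹ := by group
      _ = x * (A * B) * x⁻¹ := by rw [← (h.central c1 z).eq, ← (h.central c2 y).eq]; group
      _ = A * B := by rw [← (h.central ((Fix τ).mul_mem c1 c2) x).eq]; group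
  have hL : ∀ x y z : T, ⁅z, ⁅x, y⁆⁆ = 1 := by
    suffices key : ∀ x y z : T, ⁅x, ⁅y, z⁆⁆ = 1 from fun x y z => key z x y
    intro x y z
    have hρc : ∀ a b c : T, ρ' (m a) = m c → ⁅m c, m b⁆ = m (ρ (ρ ⁅a, b⁆)) := fun a b c e => by
      rw [← e, (hrule' _ _).1, hmρ, hmρ, map_commutatorElement m a b]
    have t1 : ⁅z, ⁅ρ x, y⁆⁆ = ρ ⁅z, ⁅x, y⁆⁆ := by
      rw [hcongr z ⁅ρ x, y⁆ (ρ (ρ ⁅x, y⁆)) (by
        rw [map_commutatorElement]; exact hρc x y (ρ x) (hmρ x).symm),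
        (hrule z _ (hWρ _ (hcW x y))).2, (hrule z _ (hcW x y)).2, h.cube]
    have t2 : ⁅y, ⁅z, ρ x⁆⁆ = ρ ⁅y, ⁅z, x⁆⁆ := by
      rw [hcongr y ⁅z, ρ x⁆ (ρ (ρ ⁅z, x⁆)) (by
        rw [map_commutatorElement, hmρ, (hrule' _ _).2, hmρ, hmρ, map_commutatorElement m z x]),
        (hrule y _ (hWρ _ (hcW z x))).2, (hrule y _ (hcW z x)).2, h.cube]
    have t3 := (hrule x _ (hcW y z)).1
    have k := hJ (ρ x) y z
    rw [t1, t2, t3, hJ x y z, map_mul] at k
    have k' := mul_left_cancel k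
    exact h.rho_fpf (ρ.injective k').symm
  -- hence `W` is central
  set Cm := commutator T with hCm
  have hCmc : Cm ≤ Subgroup.center T := by
    rw [hCm, commutator_def, Subgroup.commutator_le]
    intro a _ b _
    rw [Subgroup.mem_center_iff]
    exact fun g => commutatorElement_eq_one_iff_mul_comm.mp (hL a b g)
  have hWle : W ≤ Cm ⊔ Fix τ := by
    have h1 : Fix τ' ≤ Cm.map m := by
      have hst : ∀ (σ : MulAut T) (σ' : MulAut (T ⧸ Fix τ)),
          (∀ x : T, σ' (m x) = m (σ x)) → ∀ u ∈ Cm.map m, σ' u ∈ Cm.map m := by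
        rintro σ σ' hσ _ ⟨x, hx, rfl⟩
        refine ⟨σ x, ?_, (hσ x).symm⟩
        have hmap : Cm.map σ.toMonoidHom ≤ Cm := by
          rw [hCm, commutator_def, Subgroup.map_commutator]
          exact Subgroup.commutator_mono le_top le_top
        exact hmap ⟨x, hx, rfl⟩
      refine h'.fix_le (hst τ τ' fun x => hτ' x) (hst ρ ρ' fun x => hρ' x) fun hbot => hna ?_
      intro a b
      obtain ⟨a, rfl⟩ := QuotientGroup.mk'_surjective (Fix τ) a
      obtain ⟨b, rfl⟩ := QuotientGroup.mk'_surjective (Fix τ) b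
      refine commutatorElement_eq_one_iff_mul_comm.mp ?_
      rw [← map_commutatorElement]
      exact Subgroup.mem_bot.mp (hbot ▸ Subgroup.mem_map_of_mem m
        (Subgroup.commutator_mem_commutator (Subgroup.mem_top a) (Subgroup.mem_top b)))
    calc W ≤ (Cm.map m).comap m := Subgroup.comap_mono h1
      _ = Cm ⊔ m.ker := Subgroup.comap_map_eq m Cm
      _ = Cm ⊔ Fix τ := by rw [hm, QuotientGroup.ker_mk']
  have hWc : W ≤ Subgroup.center T := hWle.trans (sup_le hCmc h.fix_le_center)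
  have hsqW : ∀ x : T, x * x ∈ W := fun x => by
    rw [hW, Subgroup.mem_comap, map_mul]; exact hsq _
  let Z2 : Subgroup T :=
    { carrier := {c | c ∈ Subgroup.center T ∧ c * c = 1}
      one_mem' := ⟨one_mem _, one_mul 1⟩
      mul_mem' := fun {a b} ha hb => ⟨mul_mem ha.1 hb.1, by
        calc a * b * (a * b) = a * (b * a) * b := by group
          _ = a * (a * b) * b := by rw [Subgroup.mem_center_iff.mp ha.1 b]
          _ = (a * a) * (b * b) := by group
          _ = 1 := by rw [ha.2, hb.2, one_mul]⟩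
      inv_mem' := fun {a} ha => ⟨inv_mem ha.1, by rw [← mul_inv_rev, ha.2, inv_one]⟩ }
  have hW2 : W ≤ Z2 := by
    refine hWle.trans (sup_le ?_ fun v hv => ⟨h.fix_le_center hv, h.sq_eq_one hv⟩)
    rw [hCm, commutator_def, Subgroup.commutator_le]
    intro a _ b _
    refine ⟨hWc (hcW a b), ?_⟩
    have h1 : ⁅a * a, b⁆ = ⁅a, b⁆ * ⁅a, b⁆ := comm_mul_left (hWc (hcW a b))
    rw [← h1, commutatorElement_eq_one_iff_mul_comm]
    exact (Subgroup.mem_center_iff.mp (hWc (hsqW a)) b).symm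
  have hrelW : ∀ c ∈ W, ρ (ρ c) = c * ρ c := fun c hc => by
    have h1 := h.prod_orbit_eq_one (hWab c hc _ (hWρ _ hc)) (hWab c hc _ (hWρ _ (hWρ _ hc)))
    rw [mul_eq_one_iff_eq_inv'] at h1
    rw [h1]; exact inv_eq_of_mul_eq_one_right (hW2 (W.mul_mem hc (hWρ _ hc))).2
  have hR : ∀ x y : T, ⁅ρ x, y⁆ = ρ (ρ ⁅x, y⁆) ∧ ⁅x, ρ y⁆ = ρ (ρ ⁅x, y⁆) := fun x y =>
    pairing_rule ρ (X := ⊤) (Y := ⊤) hT hT h.cube hWρ hWc (fun c hc => (hW2 hc).2) hrelW
      (fun a _ b _ => hcW a b)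
      (fun a _ b _ => commutatorElement_eq_one_iff_mul_comm.mpr
        ((Subgroup.mem_center_iff.mp (hWc (hTorb a)) b).symm))
      (fun a _ b _ => commutatorElement_eq_one_iff_mul_comm.mpr
        (Subgroup.mem_center_iff.mp (hWc (hTorb b)) a)) (Subgroup.mem_top x) (Subgroup.mem_top y)
  -- generators
  have hne' : Fix τ' ≠ ⊤ := fun e0 => hna fun a b =>
    (h'.central (show a ∈ Fix τ' from e0 ▸ Subgroup.mem_top a) b).eq
  obtain ⟨τ'', ρ'', h'', -, hρ''⟩ := h'.exists_quotient hne'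
  obtain ⟨e, he⟩ := h''.exists_coord (fun u => by
    obtain ⟨v, rfl⟩ := QuotientGroup.mk_surjective u
    exact (QuotientGroup.eq_one_iff (v * v)).mpr (hsq v)) (by
    have := Subgroup.card_eq_card_quotient_mul_card_subgroup (Fix τ')
    rw [h64, show Nat.card (Fix τ') = 4 from h'.card_fix] at this
    omega)
  set μ : T →* (T ⧸ Fix τ) ⧸ Fix τ' := (QuotientGroup.mk' (Fix τ')).comp m
  have hμs : Function.Surjective μ :=
    (QuotientGroup.mk'_surjective _).comp (QuotientGroup.mk'_surjective _)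
  obtain ⟨a, ha⟩ := hμs (e (Multiplicative.ofAdd (1, 0)))
  obtain ⟨b, hb⟩ := hμs (e (Multiplicative.ofAdd (0, 1)))
  set a₁ := ρ a with ha₁def
  set b₁ := ρ b with hb₁def
  have hμρ : ∀ x : T, μ (ρ x) = ρ'' (μ x) := fun x => by
    show ((m (ρ x) : T ⧸ Fix τ) : (T ⧸ Fix τ) ⧸ Fix τ') = ρ'' ((m x : T ⧸ Fix τ) : (T ⧸ Fix τ) ⧸ Fix τ')
    rw [hρ'', hmρ]
  have ha₁ : μ a₁ = e (Multiplicative.ofAdd (om, 0)) := by
    rw [hμρ, ha, he, mul_one, mul_zero]
  have hb₁ : μ b₁ = e (Multiplicative.ofAdd (0, om)) := by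
    rw [hμρ, hb, he, mul_one, mul_zero]
  set G0 : Subgroup T := Subgroup.closure ({a, a₁, b, b₁} ∪ (W : Set T))
  have htop : G0 = ⊤ := by
    refine eq_top_iff.mpr fun x _ => ?_
    have h1 : ∀ p : Quad × Quad, e (Multiplicative.ofAdd p) ∈ G0.map μ := by
      have g1 : ∀ y ∈ ({a, a₁, b, b₁} : Set T), μ y ∈ G0.map μ := fun y hy =>
        Subgroup.mem_map_of_mem μ (Subgroup.subset_closure (Or.inl hy))
      rintro ⟨r, s⟩
      rw [show ((r, s) : Quad × Quad) = (r, 0) + (0, s) by simp, ofAdd_add, map_mul]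
      refine mul_mem ?_ ?_
      · rcases quad_cases r with rfl | rfl | rfl | rfl
        · rw [Prod.mk_zero_zero, ofAdd_zero, map_one]; exact one_mem _
        · exact ha ▸ g1 a (by simp)
        · exact ha₁ ▸ g1 a₁ (by simp)
        · rw [show ((om * om, 0) : Quad × Quad) = (1, 0) + (om, 0) from Prod.ext
            (show om * om = 1 + om by decide +kernel) (by simp), ofAdd_add, map_mul]
          exact mul_mem (ha ▸ g1 a (by simp)) (ha₁ ▸ g1 a₁ (by simp))
      · rcases quad_cases s with rfl | rfl | rfl | rfl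
        · rw [Prod.mk_zero_zero, ofAdd_zero, map_one]; exact one_mem _
        · exact hb ▸ g1 b (by simp)
        · exact hb₁ ▸ g1 b₁ (by simp)
        · rw [show ((0, om * om) : Quad × Quad) = (0, 1) + (0, om) from Prod.ext (by simp)
            (show om * om = 1 + om by decide +kernel), ofAdd_add, map_mul]
          exact mul_mem (hb ▸ g1 b (by simp)) (hb₁ ▸ g1 b₁ (by simp))
    obtain ⟨g, hg, hge⟩ : μ x ∈ G0.map μ := by
      have := h1 (e.symm (μ x)).toAdd
      rwa [ofAdd_toAdd, e.apply_symm_apply] at this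
    have hk : g⁻¹ * x ∈ W := by
      rw [hW, Subgroup.mem_comap, ← QuotientGroup.eq_one_iff (N := Fix τ')]
      show μ (g⁻¹ * x) = 1
      rw [map_mul, map_inv, hge, inv_mul_cancel]
    rw [show x = g * (g⁻¹ * x) by group]
    exact mul_mem hg (Subgroup.subset_closure (Or.inr hk))
  set z := ⁅a, b⁆ with hz
  have hzW : z ∈ W := hcW a b
  set S := (scHom (hW2 hzW).2 (hWab z hzW _ (hWρ z hzW)) (hrelW z hzW)).range
  have hSW : S ≤ W := by
    rintro _ ⟨r, rfl⟩
    exact sc_mem hWρ hzW _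
  have hSρ : ∀ x ∈ S, ρ x ∈ S := by
    rintro _ ⟨r, rfl⟩
    exact ⟨Multiplicative.ofAdd (om * r.toAdd), (rho_sc (h.cube z) r.toAdd).symm⟩
  have hzS : z ∈ S := ⟨Multiplicative.ofAdd 1, rfl⟩
  -- the commutator homomorphisms
  let φ : T → T →* T := fun g =>
    { toFun := fun y => ⁅g, y⁆
      map_one' := commutatorElement_one_right g
      map_mul' := fun y y' => comm_mul_right (hWc (hcW g y')) }
  have hgen : ∀ g ∈ ({a, a₁, b, b₁} ∪ (W : Set T)), ∀ g' ∈ ({a, a₁, b, b₁} ∪ (W : Set T)),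
      ⁅g, g'⁆ ∈ S := by
    have hWone : ∀ w ∈ W, ∀ g : T, ⁅g, w⁆ = 1 ∧ ⁅w, g⁆ = 1 := fun w hw g =>
      ⟨commutatorElement_eq_one_iff_mul_comm.mpr (Subgroup.mem_center_iff.mp (hWc hw) g),
       commutatorElement_eq_one_iff_mul_comm.mpr (Subgroup.mem_center_iff.mp (hWc hw) g).symm⟩
    have k0 : ∀ g : T, ⁅g, ρ g⁆ = 1 := fun g => by
      rw [(hR g g).2, commutatorElement_self, map_one, map_one]
    have p1 : ⁅a, a₁⁆ ∈ S := by rw [ha₁def, k0]; exact one_mem _
    have p2 : ⁅b, b₁⁆ ∈ S := by rw [hb₁def, k0]; exact one_mem _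
    have p3 : ⁅a, b₁⁆ ∈ S := by rw [hb₁def, (hR a b).2]; exact hSρ _ (hSρ _ hzS)
    have p4 : ⁅a₁, b⁆ ∈ S := by rw [ha₁def, (hR a b).1]; exact hSρ _ (hSρ _ hzS)
    have p5 : ⁅a₁, b₁⁆ ∈ S := by
      rw [ha₁def, hb₁def, ← map_commutatorElement]; exact hSρ _ hzS
    have sw : ∀ g g' : T, ⁅g, g'⁆ ∈ S → ⁅g', g⁆ ∈ S := fun g g' hgg => by
      rw [← commutatorElement_inv]; exact inv_mem hgg
    have sf : ∀ g : T, ⁅g, g⁆ ∈ S := fun g => by rw [commutatorElement_self]; exact one_mem _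
    rintro g ((rfl | rfl | rfl | rfl) | hg) g' ((rfl | rfl | rfl | rfl) | hg')
    all_goals first
      | exact sf _
      | exact hzS
      | exact sw _ _ hzS
      | exact p1
      | exact sw _ _ p1
      | exact p2
      | exact sw _ _ p2
      | exact p3
      | exact sw _ _ p3
      | exact p4
      | exact sw _ _ p4
      | exact p5
      | exact sw _ _ p5
      | (rw [(hWone _ hg _).2]; exact one_mem _)
      | (rw [(hWone _ hg' _).1]; exact one_mem _)
  have hall : ∀ x y : T, ⁅x, y⁆ ∈ S := fun x y => by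
    have h1 : ∀ g ∈ ({a, a₁, b, b₁} ∪ (W : Set T)), ∀ y, ⁅g, y⁆ ∈ S := fun g hg y => by
      have : G0 ≤ S.comap (φ g) := (Subgroup.closure_le _).mpr fun g' hg' => hgen g hg g' hg'
      exact this (htop ▸ Subgroup.mem_top y)
    have : G0 ≤ S.comap (φ y) := (Subgroup.closure_le _).mpr fun g hg => by
      show ⁅y, g⁆ ∈ S
      rw [← commutatorElement_inv]; exact inv_mem (h1 g hg y)
    have h2 : ⁅y, x⁆ ∈ S := this (htop ▸ Subgroup.mem_top x)
    rw [← commutatorElement_inv]; exact inv_mem h2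
  -- so the commutators are fixed, and the quotient would be abelian
  apply hna
  have hSF : S ≤ Fix τ := by
    obtain ⟨v, hv, hv1⟩ := h.exists_ne_one
    have hzF : z ∈ Fix τ := by
      by_cases hz1 : z = 1
      · rw [hz1]; exact one_mem _
      have hτS : ∀ x ∈ Cm, τ x ∈ Cm := fun x hx => by
        have hmap : Cm.map τ.toMonoidHom ≤ Cm := by
          rw [hCm, commutator_def, Subgroup.map_commutator]
          exact Subgroup.commutator_mono le_top le_top
        exact hmap ⟨x, hx, rfl⟩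
      have hρS : ∀ x ∈ Cm, ρ x ∈ Cm := fun x hx => by
        have hmap : Cm.map ρ.toMonoidHom ≤ Cm := by
          rw [hCm, commutator_def, Subgroup.map_commutator]
          exact Subgroup.commutator_mono le_top le_top
        exact hmap ⟨x, hx, rfl⟩
      have hCS : Cm ≤ S := by
        rw [hCm, commutator_def, Subgroup.commutator_le]
        exact fun x _ y _ => hall x y
      have hvS : v ∈ S := hCS <| h.fix_le hτS hρS (fun hbot => hz1 <| Subgroup.mem_bot.mp <|
        hbot ▸ (Subgroup.commutator_mem_commutator (Subgroup.mem_top a) (Subgroup.mem_top b) :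
          z ∈ Cm)) hv
      obtain ⟨r, hr⟩ := hvS
      rw [scHom_apply] at hr
      rcases quad_cases r.toAdd with e0 | e0 | e0 | e0 <;> rw [e0] at hr
      · exact absurd hr.symm hv1
      · rw [sc_one] at hr; rw [hr]; exact hv
      · rw [sc_om] at hr
        have := h.rho_mem_fix (h.rho_mem_fix (hr.symm ▸ hv : ρ z ∈ Fix τ))
        rwa [h.cube] at this
      · rw [sc_om2] at hr
        have := h.rho_mem_fix (hr.symm ▸ hv : ρ (ρ z) ∈ Fix τ)
        rwa [h.cube] at this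
    rintro _ ⟨r, rfl⟩
    exact sc_mem (fun x hx => h.rho_mem_fix hx) hzF _
  intro u v
  obtain ⟨u, rfl⟩ := QuotientGroup.mk'_surjective (Fix τ) u
  obtain ⟨v, rfl⟩ := QuotientGroup.mk'_surjective (Fix τ) v
  refine commutatorElement_eq_one_iff_mul_comm.mp ?_
  rw [← map_commutatorElement]
  exact (QuotientGroup.eq_one_iff _).mpr (hSF (hall u v))

end IsFourFixed

end Cfsg.Agent.Lib.FourFixed58
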