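import Cfsg.Agent.Lib.FourFixed58.Pairing
import Cfsg.Agent.Lib.Golay.PSL34

/-!
# Coordinates over the field of four elements
-/

set_option autoImplicit false

namespace Cfsg.Agent.Lib.FourFixed58

open Golay (Quad)

/-- A primitive element. -/
def om : Quad := ⟨2⟩

theorem quad_cases : ∀ r : Quad, r = 0 ∨ r = 1 ∨ r = om ∨ r = om * om := by decide +kernel

/-- Quadratic forms with nonzero cross term are hyperbolic or anisotropic. -/
theorem normal_form : ∀ α γ : Quad, ∃ a b c d : Quad, a * d + b * c ≠ 0 ∧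
    ((∀ r s : Quad, (a * r + b * s) * (c * r + d * s) + α * (a * r + b * s) * (a * r + b * s) +
        γ * (c * r + d * s) * (c * r + d * s) = r * s) ∨
     (∀ r s : Quad, (a * r + b * s) * (c * r + d * s) + α * (a * r + b * s) * (a * r + b * s) +
        γ * (c * r + d * s) * (c * r + d * s) = r * r + r * s + om * s * s)) := by
  decide +kernel

section Hom

variable {T : Type*} [Group T]

/-- The four elements `1, a, ρa, ρ²a` as a function on the field. -/
def sc (ρ : MulAut T) (a : T) (r : Quad) : T := ![1, a, ρ a, ρ (ρ a)] r.num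

theorem sc_zero (ρ : MulAut T) (a : T) : sc ρ a 0 = 1 := rfl
theorem sc_one (ρ : MulAut T) (a : T) : sc ρ a 1 = a := rfl
theorem sc_om (ρ : MulAut T) (a : T) : sc ρ a om = ρ a := rfl
theorem sc_om2 (ρ : MulAut T) (a : T) : sc ρ a (om * om) = ρ (ρ a) := rfl

theorem rho_sc {ρ : MulAut T} {a : T} (hcube : ρ (ρ (ρ a)) = a) (r : Quad) :
    ρ (sc ρ a r) = sc ρ a (om * r) := by
  rcases quad_cases r with rfl | rfl | rfl | rfl
  · rw [mul_zero, sc_zero, map_one]
  · rw [mul_one, sc_one, sc_om]
  · rw [sc_om, sc_om2]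
  · rw [sc_om2, hcube, show om * (om * om) = 1 by decide +kernel, sc_one]

theorem sc_mem {ρ : MulAut T} {a : T} {X : Subgroup T} (hρ : ∀ x ∈ X, ρ x ∈ X) (ha : a ∈ X)
    (r : Quad) : sc ρ a r ∈ X := by
  rcases quad_cases r with rfl | rfl | rfl | rfl
  exacts [X.one_mem, ha, hρ _ ha, hρ _ (hρ _ ha)]

theorem sc_add {ρ : MulAut T} {a : T} (h2 : a * a = 1) (hc : Commute a (ρ a))
    (h3 : ρ (ρ a) = a * ρ a) (r r' : Quad) : sc ρ a (r + r') = sc ρ a r * sc ρ a r' := by
  have h2' : ρ a * ρ a = 1 := by rw [← map_mul, h2, map_one]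
  have k1 : a * (a * ρ a) = ρ a := by rw [← mul_assoc, h2, one_mul]
  have k2 : ρ a * (a * ρ a) = a := by rw [hc.eq, ← mul_assoc, h2', one_mul]
  have k3 : a * ρ a * a = ρ a := by rw [hc.eq, mul_assoc, h2, mul_one]
  have k4 : a * ρ a * ρ a = a := by rw [mul_assoc, h2', mul_one]
  have k5 : a * ρ a * (a * ρ a) = 1 := by rw [← mul_assoc, k3, h2']
  rcases quad_cases r with rfl | rfl | rfl | rfl <;>
    rcases quad_cases r' with rfl | rfl | rfl | rfl
  all_goals first
    | (rw [zero_add, sc_zero, one_mul])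
    | (rw [add_zero, sc_zero, mul_one])
    | (rw [show ((1 : Quad) + 1) = 0 by decide +kernel, sc_zero, sc_one, h2])
    | (rw [show ((1 : Quad) + om) = om * om by decide +kernel, sc_om2, sc_one, sc_om, h3])
    | (rw [show ((1 : Quad) + om * om) = om by decide +kernel, sc_om2, sc_one, sc_om, h3, k1])
    | (rw [show (om + (1 : Quad)) = om * om by decide +kernel, sc_om2, sc_one, sc_om, h3, hc.eq])
    | (rw [show (om + om) = (0 : Quad) by decide +kernel, sc_zero, sc_om, h2'])
    | (rw [show (om + om * om) = (1 : Quad) by decide +kernel, sc_om2, sc_one, sc_om, h3, k2])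
    | (rw [show (om * om + 1) = (om : Quad) by decide +kernel, sc_om2, sc_one, sc_om, h3, k3])
    | (rw [show (om * om + om) = (1 : Quad) by decide +kernel, sc_om2, sc_one, sc_om, h3, k4])
    | (rw [show (om * om + om * om) = (0 : Quad) by decide +kernel, sc_zero, sc_om2, h3, k5])

/-- `sc` as a homomorphism. -/
def scHom {ρ : MulAut T} {a : T} (h2 : a * a = 1) (hc : Commute a (ρ a))
    (h3 : ρ (ρ a) = a * ρ a) : Multiplicative Quad →* T where
  toFun r := sc ρ a r.toAdd
  map_one' := rfl
  map_mul' r r' := sc_add h2 hc h3 r.toAdd r'.toAdd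

theorem scHom_apply {ρ : MulAut T} {a : T} (h2 : a * a = 1) (hc : Commute a (ρ a))
    (h3 : ρ (ρ a) = a * ρ a) (r : Multiplicative Quad) : scHom h2 hc h3 r = sc ρ a r.toAdd := rfl

end Hom

namespace IsFourFixed

variable {T : Type*} [Group T] [Finite T] {τ ρ : MulAut T} (h : IsFourFixed τ ρ)
include h

omit [Finite T] in
theorem sc_injective {a : T} (ha : a ≠ 1) (h2 : a * a = 1) (hc : Commute a (ρ a))
    (h3 : ρ (ρ a) = a * ρ a) : Function.Injective (scHom h2 hc h3) := by
  rw [injective_iff_map_eq_one]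
  intro r hr
  rw [scHom_apply] at hr
  rcases quad_cases r.toAdd with e | e | e | e <;> rw [e] at hr
  · exact Multiplicative.toAdd.injective e
  · exact absurd hr ha
  · exact absurd hr (show ρ a ≠ 1 by simpa using ha)
  · exact absurd hr (show ρ (ρ a) ≠ 1 by simpa using ha)

/-- An elementary group of order 16 is a plane over the field of four elements. -/
theorem exists_coord (hsq : ∀ x : T, x * x = 1) (h16 : Nat.card T = 16) :
    ∃ e : Multiplicative (Quad × Quad) ≃* T, ∀ r s : Quad,
      ρ (e (Multiplicative.ofAdd (r, s))) = e (Multiplicative.ofAdd (om * r, om * s)) := by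
  classical
  have hab : ∀ x y : T, Commute x y := fun x y => by
    have h1 := inv_eq_of_mul_eq_one_right (hsq (x * y))
    rw [mul_inv_rev, inv_eq_of_mul_eq_one_right (hsq x), inv_eq_of_mul_eq_one_right (hsq y)] at h1
    exact h1.symm
  have h3 : ∀ a, ρ (ρ a) = a * ρ a := fun a => by
    have h1 := h.prod_orbit_eq_one (hab a (ρ a)) (hab a (ρ (ρ a)))
    rw [mul_eq_one_iff_eq_inv'] at h1
    rw [h1]; exact inv_eq_of_mul_eq_one_right (hsq _)
  haveI := h.nontrivial
  obtain ⟨a, ha⟩ := exists_ne (1 : T)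
  set f := scHom (hsq a) (hab a (ρ a)) (h3 a)
  have hlt : Nat.card f.range < Nat.card T := by
    refine lt_of_le_of_lt (Nat.card_le_card_of_surjective _ f.rangeRestrict_surjective) ?_
    rw [h16, Nat.card_congr Multiplicative.toAdd, Nat.card_eq_fintype_card, Golay.card_quad]
    norm_num
  obtain ⟨b, hb⟩ : ∃ b, b ∉ f.range := by
    by_contra hall
    push Not at hall
    rw [show f.range = ⊤ from eq_top_iff.mpr fun x _ => hall x, Subgroup.card_top] at hlt
    exact lt_irrefl _ hlt
  have hb1 : b ≠ 1 := fun e => hb (e ▸ f.range.one_mem)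
  set g := scHom (hsq b) (hab b (ρ b)) (h3 b)
  let ψ : Multiplicative (Quad × Quad) →* T :=
    { toFun := fun p => f (Multiplicative.ofAdd p.toAdd.1) * g (Multiplicative.ofAdd p.toAdd.2)
      map_one' := by simp [ofAdd_zero]
      map_mul' := fun p q => by
        simp only [toAdd_mul, Prod.fst_add, Prod.snd_add, ofAdd_add, map_mul]
        rw [mul_assoc, ← mul_assoc _ (g _), (hab _ (g (Multiplicative.ofAdd p.toAdd.2))).eq]
        simp only [mul_assoc] }
  have hψ : Function.Injective ψ := by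
    rw [injective_iff_map_eq_one]
    intro p hp
    change f (Multiplicative.ofAdd p.toAdd.1) * g (Multiplicative.ofAdd p.toAdd.2) = 1 at hp
    have hmem : g (Multiplicative.ofAdd p.toAdd.2) ∈ f.range := by
      rw [mul_eq_one_iff_eq_inv'] at hp
      rw [hp]; exact f.range.inv_mem ⟨_, rfl⟩
    have hst : ∀ x ∈ f.range, ρ x ∈ f.range := by
      rintro _ ⟨r, rfl⟩
      exact ⟨Multiplicative.ofAdd (om * r.toAdd), (rho_sc (h.cube a) r.toAdd).symm⟩
    have h2 : p.toAdd.2 = 0 := by
      rw [show g (Multiplicative.ofAdd p.toAdd.2) = sc ρ b p.toAdd.2 from rfl] at hmem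
      rcases quad_cases p.toAdd.2 with e | e | e | e <;> rw [e] at hmem
      · exact e
      · exact absurd hmem hb
      · exact absurd (hst _ (hst _ hmem)) (by rw [sc_om, h.cube]; exact hb)
      · exact absurd (hst _ hmem) (by rw [sc_om2, h.cube]; exact hb)
    rw [h2, ofAdd_zero, map_one, mul_one] at hp
    have h1 := h.sc_injective ha (hsq a) (hab a (ρ a)) (h3 a) (hp.trans (map_one _).symm)
    exact Multiplicative.toAdd.injective (Prod.ext (congrArg Multiplicative.toAdd h1) h2)
  have hbij : Function.Bijective ψ := hψ.bijective_of_nat_card_le (by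
    rw [h16, Nat.card_congr Multiplicative.toAdd, Nat.card_prod, Nat.card_eq_fintype_card,
      Golay.card_quad])
  refine ⟨MulEquiv.ofBijective ψ hbij, fun r s => ?_⟩
  change ρ (sc ρ a r * sc ρ b s) = sc ρ a (om * r) * sc ρ b (om * s)
  rw [map_mul, rho_sc (h.cube a), rho_sc (h.cube b)]

/-- The fixed points are a line. -/
theorem exists_iota : ∃ ι : Multiplicative Quad →* T, Function.Injective ι ∧ ι.range = Fix τ ∧
    ∀ r : Quad, ρ (ι (Multiplicative.ofAdd r)) = ι (Multiplicative.ofAdd (om * r)) := by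
  obtain ⟨v, hv, hv1⟩ := h.exists_ne_one
  have h2 := h.sq_eq_one hv
  have hc := h.central hv (ρ v)
  refine ⟨scHom h2 hc (h.rel hv), h.sc_injective hv1 h2 hc (h.rel hv), ?_,
    fun r => rho_sc (h.cube v) r⟩
  refine Subgroup.eq_of_le_of_card_ge ?_ ?_
  · rintro _ ⟨r, rfl⟩
    exact sc_mem (fun x hx => h.rho_mem_fix hx) hv _
  · rw [show Nat.card (Fix τ) = 4 from h.card_fix,
      ← Nat.card_congr (MonoidHom.ofInjective (h.sc_injective hv1 h2 hc (h.rel hv))).toEquiv,
      Nat.card_congr Multiplicative.toAdd, Nat.card_eq_fintype_card, Golay.card_quad]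

end IsFourFixed

end Cfsg.Agent.Lib.FourFixed58
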