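import Cfsg.Agent.Lib.FourFixed58.Classify

/-!
# The main induction
-/

set_option autoImplicit false

namespace Cfsg.Agent.Lib.FourFixed58

open scoped commutatorElement

universe u

/-- The three possibilities. -/
def Outcome {T : Type u} [Group T] (τ : MulAut T) : Prop :=
  (Nat.card T = 16 ∧ ∀ x : T, x * x = 1) ∨
  ((∀ a b : T, a * b = b * a) ∧ ∀ x : T, x * x = 1 → x ∈ Fix τ) ∨
  ((¬ ∀ a b : T, a * b = b * a) ∧ Nat.card T = 64 ∧ ∀ x : T, x * x ∈ Fix τ)

theorem outcome (n : ℕ) : ∀ (T : Type u) [Group T] [Finite T] (τ ρ : MulAut T),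
    IsFourFixed τ ρ → Nat.card T ≤ n → Outcome τ := by
  induction n with
  | zero =>
    intro T _ _ τ ρ _ hn
    exact absurd hn (by have := Nat.card_pos (α := T); omega)
  | succ n ih =>
    intro T _ _ τ ρ h hn
    haveI := h.fix_normal
    by_cases htop : Fix τ = ⊤
    · refine Or.inr (Or.inl ⟨fun a b => (h.central (htop ▸ Subgroup.mem_top a) b).eq, fun x _ => ?_⟩)
      exact htop ▸ Subgroup.mem_top x
    obtain ⟨τ', ρ', h', hτ', hρ'⟩ := h.exists_quotient htop
    have hcard := Subgroup.card_eq_card_quotient_mul_card_subgroup (Fix τ)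
    rw [show Nat.card (Fix τ) = 4 from h.card_fix] at hcard
    have hq : Nat.card (T ⧸ Fix τ) ≤ n := by
      have := Nat.card_pos (α := T ⧸ Fix τ); omega
    have hmem : ∀ x : T, (x : T ⧸ Fix τ) = 1 → x ∈ Fix τ := fun x => (QuotientGroup.eq_one_iff x).mp
    set m := QuotientGroup.mk' (Fix τ) with hm
    by_cases hab : ∀ a b : T, a * b = b * a
    · rcases h.omega_le_or hab with hΩ | hE
      · exact Or.inr (Or.inl ⟨hab, hΩ⟩)
      · exact Or.inl hE
    rcases ih _ τ' ρ' h' hq with ⟨h16, hex⟩ | ⟨hab', hΩ'⟩ | ⟨hna, h64, hsq⟩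
    · exact Or.inr (Or.inr ⟨hab, by omega, fun x => hmem _ (hex (x : T ⧸ Fix τ))⟩)
    · exfalso
      obtain ⟨ā, k, -, -, hā⟩ := h'.exists_basis hab' hΩ'
      obtain ⟨a, rfl⟩ := QuotientGroup.mk'_surjective (Fix τ) ā
      have hval : ∀ x y : T, ⁅x, y⁆ ∈ Fix τ := fun x y => hmem _ <| by
        show m ⁅x, y⁆ = 1
        rw [map_commutatorElement, commutatorElement_eq_one_iff_mul_comm]
        exact hab' _ _
      have hrel : ∀ x : T, x * ρ x * ρ (ρ x) ∈ Fix τ := fun x => hmem _ <| by
        rw [QuotientGroup.mk_mul, QuotientGroup.mk_mul, ← hρ', ← hρ', ← hρ']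
        exact h'.prod_orbit_eq_one (hab' _ _) (hab' _ _)
      have hc := h.commute_rho hval hrel a
      set S : Set T := {a, ρ a} ∪ (Fix τ : Set T)
      have hS : ∀ x ∈ S, ∀ y ∈ S, Commute x y := by
        rintro x ((rfl | rfl) | hx) y ((rfl | rfl) | hy)
        all_goals first
          | exact Commute.refl _
          | exact h.central hx _
          | exact (h.central hy _).symm
          | exact hc
          | exact hc.symm
      have hgen : ∀ x : T, x ∈ Subgroup.closure S := by
        intro x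
        obtain ⟨⟨⟨_, i, rfl⟩, ⟨_, j, rfl⟩⟩, hij, -⟩ := hā (m x)
        simp only at hij
        set y := a ^ i * ρ a ^ j with hy
        have hmy : m y = m x := by
          rw [← hij, hy, map_mul, map_zpow, map_zpow]
          congr 2
          exact (hρ' a).symm
        have hx : y⁻¹ * x ∈ Fix τ := hmem _ (by
          show m (y⁻¹ * x) = 1
          rw [map_mul, map_inv, hmy, inv_mul_cancel])
        rw [show x = y * (y⁻¹ * x) by group, hy]
        have h1 : a ∈ Subgroup.closure S := Subgroup.subset_closure (Or.inl (Or.inl rfl))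
        have h2 : ρ a ∈ Subgroup.closure S := Subgroup.subset_closure (Or.inl (Or.inr rfl))
        have h3 : y⁻¹ * x ∈ Subgroup.closure S := Subgroup.subset_closure (Or.inr hx)
        rw [hy] at h3
        exact Subgroup.mul_mem _ (Subgroup.mul_mem _ (Subgroup.zpow_mem _ h1 i)
          (Subgroup.zpow_mem _ h2 j)) h3
      exact hab fun x y => (commute_closure hS (hgen x) (hgen y)).eq
    · exact (h.no_extension h' hτ' hρ' hsq h64 hna).elim

/-- The classification. -/
theorem classification {T : Type u} [Group T] [Finite T] {τ ρ : MulAut T} (h : IsFourFixed τ ρ) :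
    (Nat.card T = 16 ∧ ∀ x : T, x * x = 1) ∨
    (∃ n : ℕ, 1 ≤ n ∧ Nonempty (T ≃* Multiplicative (ZMod (2 ^ n)) × Multiplicative (ZMod (2 ^ n)))) ∨
    HasSquaring hyperQ T ∨ HasSquaring ellQ T := by
  rcases outcome _ T τ ρ h le_rfl with hE | ⟨hab, hΩ⟩ | ⟨hna, h64, hsq⟩
  · exact Or.inl hE
  · obtain ⟨a, n, hn, ha, hbij⟩ := h.exists_basis hab hΩ
    refine Or.inr (Or.inl ⟨n, hn, ?_⟩)
    letI : CommGroup T := { (inferInstance : Group T) with mul_comm := hab }
    let ψ : ↥(Subgroup.zpowers a) × ↥(Subgroup.zpowers (ρ a)) →* T :=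
      MonoidHom.coprod (Subgroup.zpowers a).subtype (Subgroup.zpowers (ρ a)).subtype
    have hψ : Function.Bijective ψ := by
      rw [Function.bijective_iff_existsUnique]
      exact hbij
    have key : ∀ b : T, orderOf b = 2 ^ n →
        Nonempty (↥(Subgroup.zpowers b) ≃* Multiplicative (ZMod (2 ^ n))) := by
      intro b hb
      have e := (zmodCyclicMulEquiv (inferInstance : IsCyclic ↥(Subgroup.zpowers b))).symm
      rw [Nat.card_zpowers, hb] at e
      exact ⟨e⟩
    obtain ⟨e₁⟩ := key a ha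
    obtain ⟨e₂⟩ := key (ρ a) ((MulEquiv.orderOf_eq ρ a).trans ha)
    exact ⟨(MulEquiv.ofBijective ψ hψ).symm.trans (MulEquiv.prodCongr e₁ e₂)⟩
  · exact Or.inr (Or.inr (h.hasSquaring hsq h64 hna))

end Cfsg.Agent.Lib.FourFixed58
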