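import Cfsg.Agent.Lib.FourFixed58.Nonabelian
import Cfsg.Agent.Lib.Classical.UnitaryCentre
import Cfsg.Agent.Lib.LinGroup.Order
import Cfsg.Prelude.Def_Classical

/-!
# Sylow 2-subgroups of `PSL₃(4)` and `PSU₃(4)`
-/

set_option autoImplicit false

namespace Cfsg.Agent.Lib.FourFixed58

open Golay (Quad)

/-- A subgroup with a squaring map passes to the Sylow subgroups modulo a centre of odd order. -/
theorem sylow_squaring {G : Type*} [Group G] [Finite G] {q : Quad × Quad → Quad} {U : Subgroup G}
    (hU : HasSquaring q U) {m : ℕ} (hodd : Odd (Nat.card (Subgroup.center G))) (hm : Odd m)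
    (hG : Nat.card (G ⧸ Subgroup.center G) = 64 * m) (P : Sylow 2 (G ⧸ Subgroup.center G)) :
    HasSquaring q (P : Subgroup (G ⧸ Subgroup.center G)) := by
  classical
  haveI : Fact (Nat.Prime 2) := ⟨Nat.prime_two⟩
  have h64 : Nat.card U = 64 := by
    rw [hU.natCard, Nat.card_prod, Nat.card_eq_fintype_card, Golay.card_quad]
  set f := QuotientGroup.mk' (Subgroup.center G)
  have hinj : Function.Injective (f.subgroupMap U) := by
    rw [injective_iff_map_eq_one]
    intro x hx
    have h1 : (x : G) ∈ Subgroup.center G :=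
      (QuotientGroup.eq_one_iff _).mp (congrArg Subtype.val hx)
    have d1 : orderOf (x : G) ∣ 64 := by
      rw [← h64, Subgroup.orderOf_coe]; exact orderOf_dvd_natCard x
    have d2 : orderOf (x : G) ∣ Nat.card (Subgroup.center G) := by
      rw [show (x : G) = ((⟨x, h1⟩ : Subgroup.center G) : G) from rfl, Subgroup.orderOf_coe]
      exact orderOf_dvd_natCard _
    have hc : Nat.Coprime 64 (Nat.card (Subgroup.center G)) := by
      rw [show 64 = 2 ^ 6 by norm_num]
      exact (Nat.coprime_two_left.mpr hodd).pow_left 6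
    exact Subtype.ext (orderOf_eq_one_iff.mp (Nat.eq_one_of_dvd_coprimes hc d1 d2))
  let e : U ≃* U.map f := MulEquiv.ofBijective _ ⟨hinj, f.subgroupMap_surjective U⟩
  have hc : Nat.card (U.map f) = 64 := by rw [← Nat.card_congr e.toEquiv, h64]
  have hidx : ¬ 2 ∣ (U.map f).index := by
    have h1 := (U.map f).card_mul_index
    rw [hc, hG] at h1
    rw [Nat.eq_of_mul_eq_mul_left (by norm_num) h1]
    exact Nat.two_dvd_ne_zero.mpr (Nat.odd_iff.mp hm)
  have hp : IsPGroup 2 (U.map f) := IsPGroup.of_card (n := 6) (by rw [hc]; norm_num)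
  have h2 : (hp.toSylow hidx : Subgroup (G ⧸ Subgroup.center G)) = U.map f := rfl
  exact hU.of_mulEquiv (e.trans ((MulEquiv.subgroupCongr h2.symm).trans ((hp.toSylow hidx).equiv P)))

section Linear

/-- An upper unitriangular matrix. -/
def upperMat (x y z : Quad) : Matrix (Fin 3) (Fin 3) Quad := !![1, x, z; 0, 1, y; 0, 0, 1]

/-- An upper unitriangular element. -/
def upperElt (x y z : Quad) : Matrix.SpecialLinearGroup (Fin 3) Quad :=
  ⟨upperMat x y z, by simp [upperMat, Matrix.det_fin_three]⟩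

theorem upperElt_mul (x y z x' y' z' : Quad) :
    upperElt x y z * upperElt x' y' z' = upperElt (x + x') (y + y') (z + z' + x * y') := by
  apply Subtype.ext
  show upperMat x y z * upperMat x' y' z' = upperMat _ _ _
  ext i j
  fin_cases i <;> fin_cases j <;>
    simp [upperMat, Matrix.mul_apply, Fin.sum_univ_three] <;> ring

theorem upperElt_inj {x y z x' y' z' : Quad} (h : upperElt x y z = upperElt x' y' z') :
    x = x' ∧ y = y' ∧ z = z' := by
  have h0 := congrArg Subtype.val h
  exact ⟨congrFun (congrFun h0 0) 1, congrFun (congrFun h0 1) 2, congrFun (congrFun h0 0) 2⟩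

theorem upperElt_zero : upperElt 0 0 0 = 1 := by
  apply Subtype.ext
  show upperMat 0 0 0 = 1
  ext i j
  fin_cases i <;> fin_cases j <;> simp [upperMat]

/-- The unitriangular group. -/
def upperGroup : Subgroup (Matrix.SpecialLinearGroup (Fin 3) Quad) where
  carrier := {g | ∃ x y z, g = upperElt x y z}
  one_mem' := ⟨0, 0, 0, upperElt_zero.symm⟩
  mul_mem' := by
    rintro _ _ ⟨x, y, z, rfl⟩ ⟨x', y', z', rfl⟩
    exact ⟨_, _, _, upperElt_mul x y z x' y' z'⟩
  inv_mem' := by
    rintro _ ⟨x, y, z, rfl⟩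
    refine ⟨x, y, z + x * y, inv_eq_of_mul_eq_one_right ?_⟩
    rw [upperElt_mul, ← upperElt_zero]
    have h2 : ∀ u : Quad, u + u = 0 := by decide +kernel
    congr 1
    · exact h2 x
    · exact h2 y
    · calc z + (z + x * y) + x * y = (z + z) + (x * y + x * y) := by ring
        _ = 0 := by rw [h2, h2, add_zero]

theorem hasSquaring_upperGroup : HasSquaring hyperQ upperGroup := by
  have h2 : ∀ u : Quad, u + u = 0 := by decide +kernel
  let π : upperGroup →* Multiplicative (Quad × Quad) :=
    { toFun := fun g => Multiplicative.ofAdd ((g.1 : Matrix (Fin 3) (Fin 3) Quad) 0 1,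
        (g.1 : Matrix (Fin 3) (Fin 3) Quad) 1 2)
      map_one' := by simp [Prod.mk_zero_zero]
      map_mul' := by
        rintro ⟨_, x, y, z, rfl⟩ ⟨_, x', y', z', rfl⟩
        show Multiplicative.ofAdd ((upperElt x y z * upperElt x' y' z').1 0 1,
          (upperElt x y z * upperElt x' y' z').1 1 2) = _
        rw [upperElt_mul, ← ofAdd_add]
        rfl }
  let ι : Multiplicative Quad →* upperGroup :=
    { toFun := fun w => ⟨upperElt 0 0 w.toAdd, 0, 0, w.toAdd, rfl⟩
      map_one' := Subtype.ext upperElt_zero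
      map_mul' := fun u v => Subtype.ext (by
        show upperElt 0 0 (u * v).toAdd = upperElt 0 0 u.toAdd * upperElt 0 0 v.toAdd
        rw [upperElt_mul, toAdd_mul, add_zero, mul_zero, add_zero]) }
  refine ⟨π, ι, fun p => ⟨⟨upperElt p.toAdd.1 p.toAdd.2 0, _, _, _, rfl⟩, rfl⟩, ?_, ?_, ?_, ?_⟩
  · intro u v huv
    exact Multiplicative.toAdd.injective (upperElt_inj (congrArg Subtype.val huv)).2.2
  · rintro _ ⟨w, rfl⟩
    rw [Subgroup.mem_center_iff]
    rintro ⟨_, x, y, z, rfl⟩
    apply Subtype.ext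
    show upperElt x y z * upperElt 0 0 w.toAdd = upperElt 0 0 w.toAdd * upperElt x y z
    rw [upperElt_mul, upperElt_mul]
    congr 1
    · rw [add_comm]
    · rw [add_comm]
    · ring
  · ext ⟨g, x, y, z, rfl⟩
    constructor
    · rintro ⟨w, hw⟩
      obtain ⟨rfl, rfl, -⟩ := upperElt_inj (congrArg Subtype.val hw)
      rfl
    · intro hg
      have h1 : (x, y) = ((0, 0) : Quad × Quad) := Multiplicative.ofAdd.injective hg
      obtain ⟨rfl, rfl⟩ := Prod.ext_iff.mp h1
      exact ⟨Multiplicative.ofAdd z, rfl⟩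
  · rintro ⟨_, x, y, z, rfl⟩
    apply Subtype.ext
    show upperElt x y z * upperElt x y z = upperElt 0 0 (x * y)
    rw [upperElt_mul, h2, h2, h2, zero_add]

theorem psl_squaring (P : Sylow 2 (Matrix.ProjectiveSpecialLinearGroup (Fin 3) Quad)) :
    HasSquaring hyperQ (P : Subgroup (Matrix.ProjectiveSpecialLinearGroup (Fin 3) Quad)) := by
  refine sylow_squaring hasSquaring_upperGroup ?_ (m := 315) (by decide) ?_ P
  · rw [LinGroup.card_center_SL, Fintype.card_fin, Nat.card_units, Nat.card_eq_fintype_card,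
      Golay.card_quad]
    decide
  · have h := LinGroup.card_PSL_mul (F := Quad) 3 (by norm_num)
    rw [Golay.card_quad, Fin.prod_univ_three] at h
    norm_num [-Nat.card_eq_fintype_card] at h
    change Nat.card (Matrix.ProjectiveSpecialLinearGroup (Fin 3) Quad) = 64 * 315
    omega

end Linear

section Unitary

variable {F : Type*} [Field F] [Fintype F]

theorem two_eq_zero (hF : Fintype.card F = 16) : (2 : F) = 0 := by
  have h := Nat.cast_card_eq_zero F
  rw [hF] at h
  have : (2 : F) ^ 4 = 0 := by norm_num at h ⊢; exact h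
  exact pow_eq_zero_iff (by norm_num) |>.mp this

theorem exists_pow_add (hF : Fintype.card F = 16) {c : F} (hc : c ^ 4 = c) :
    ∃ y : F, y ^ 4 + y = c := by
  classical
  have h2 := two_eq_zero hF
  have h16 : ∀ x : F, x ^ 16 = x := fun x => hF ▸ FiniteField.pow_card x
  let f : F →+ F :=
    { toFun := fun y => y ^ 4 + y
      map_zero' := by simp
      map_add' := fun x y => by
        linear_combination (2 * x ^ 3 * y + 3 * x ^ 2 * y ^ 2 + 2 * x * y ^ 3) * h2 }
  set R : Finset F := Finset.univ.filter fun x => x ^ 4 = x with hR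
  have hRcard : R.card ≤ 4 := by
    have hne : (Polynomial.X ^ 4 - Polynomial.X : Polynomial F) ≠ 0 :=
      FiniteField.X_pow_card_sub_X_ne_zero F (by norm_num)
    refine le_trans (Finset.card_le_card (t := (Polynomial.X ^ 4 - Polynomial.X :
      Polynomial F).roots.toFinset) ?_) ((Multiset.toFinset_card_le _).trans
      ((Polynomial.card_roots' _).trans (le_of_eq ?_)))
    · intro x hx
      rw [hR, Finset.mem_filter] at hx
      simp [Multiset.mem_toFinset, Polynomial.mem_roots hne, hx.2]
    · exact FiniteField.X_pow_card_sub_X_natDegree_eq F (by norm_num)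
  have hker : Nat.card f.ker ≤ 4 := by
    refine le_trans ?_ hRcard
    rw [← Nat.card_eq_finsetCard]
    refine Nat.card_le_card_of_injective (fun x : f.ker => (⟨x.1, ?_⟩ : R)) ?_
    · have hx : (x : F) ^ 4 + x = 0 := x.2
      simp only [hR, Finset.mem_filter, Finset.mem_univ, true_and]
      linear_combination hx - (x : F) * h2
    · intro x y hxy; exact Subtype.ext (congrArg Subtype.val hxy :)
  let j : f.range → R := fun x => ⟨x.1, by
    obtain ⟨y, hy⟩ := x.2
    simp only [hR, Finset.mem_filter, Finset.mem_univ, true_and]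
    rw [← hy]
    show (y ^ 4 + y) ^ 4 = y ^ 4 + y
    linear_combination h16 y + (2 * y ^ 13 + 3 * y ^ 10 + 2 * y ^ 7) * h2⟩
  have hj : Function.Bijective j := by
    refine Function.Injective.bijective_of_nat_card_le
      (fun x y hxy => Subtype.ext (congrArg Subtype.val hxy :)) ?_
    rw [Nat.card_eq_finsetCard]
    refine le_trans hRcard ?_
    have h1 := AddSubgroup.card_eq_card_quotient_mul_card_addSubgroup f.ker
    rw [Nat.card_congr (QuotientAddGroup.quotientKerEquivRange f).toEquiv, Nat.card_eq_fintype_card (α := F),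
      hF] at h1
    by_contra hlt
    have : Nat.card f.range * Nat.card f.ker ≤ 3 * 4 := Nat.mul_le_mul (by omega) hker
    omega
  obtain ⟨⟨_, y, rfl⟩, hy⟩ := hj.2 ⟨c, by simp [hR, hc]⟩
  exact ⟨y, congrArg Subtype.val hy⟩

/-- The embedding of the field of four elements determined by `ω`. -/
def quadTo (ω : F) (r : Quad) : F := ![0, 1, ω, ω + 1] r.num

theorem quadTo_add {ω : F} (h2 : (2 : F) = 0) (r s : Quad) :
    quadTo ω (r + s) = quadTo ω r + quadTo ω s := by
  rcases quad_cases r with rfl | rfl | rfl | rfl <;> rcases quad_cases s with rfl | rfl | rfl | rfl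
  all_goals
    simp [quadTo, show ((1 : Quad) + 1).num = 0 by decide +kernel,
      show ((1 : Quad) + om).num = 3 by decide +kernel,
      show ((1 : Quad) + om * om).num = 2 by decide +kernel,
      show ((om : Quad) + 1).num = 3 by decide +kernel,
      show ((om : Quad) + om).num = 0 by decide +kernel,
      show ((om : Quad) + om * om).num = 1 by decide +kernel,
      show (om * om + 1).num = 2 by decide +kernel,
      show (om * om + om).num = 1 by decide +kernel,
      show (om * om + om * om).num = 0 by decide +kernel,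
      show (0 : Quad).num = 0 from rfl, show (1 : Quad).num = 1 from rfl,
      show (om : Quad).num = 2 from rfl, show (om * om : Quad).num = 3 from rfl] <;>
    first | ring1 | linear_combination h2 | linear_combination -h2 | linear_combination ω * h2 |
      linear_combination -ω * h2 | linear_combination (ω + 1) * h2 |
      linear_combination -(ω + 1) * h2

theorem quadTo_mul {ω : F} (h2 : (2 : F) = 0) (hω : ω * ω = ω + 1) (r s : Quad) :
    quadTo ω (r * s) = quadTo ω r * quadTo ω s := by
  have h3 : ω * (ω + 1) = 1 := by linear_combination hω + ω * h2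
  have h4 : (ω + 1) * (ω + 1) = ω := by linear_combination hω + (ω + 1) * h2
  rcases quad_cases r with rfl | rfl | rfl | rfl <;> rcases quad_cases s with rfl | rfl | rfl | rfl
  all_goals
    simp [quadTo, show (om * (om * om)).num = 1 by decide +kernel,
      show (om * om * om).num = 1 by decide +kernel,
      show (om * om * (om * om)).num = 2 by decide +kernel,
      show (0 : Quad).num = 0 from rfl, show (1 : Quad).num = 1 from rfl,
      show (om : Quad).num = 2 from rfl, show (om * om : Quad).num = 3 from rfl, hω, h3, h4,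
      mul_comm (ω + 1) ω]

/-- The unipotent unitary matrices fixing the isotropic vector `(1,1,0)`. -/
def unitMat (x z : F) : Matrix (Fin 3) (Fin 3) F :=
  !![1 + z, z, x ^ 4; z, 1 + z, x ^ 4; x, x, 1]

theorem unitMat_mul (h2 : (2 : F) = 0) (x z x' z' : F) :
    unitMat x z * unitMat x' z' = unitMat (x + x') (z + z' + x ^ 4 * x') := by
  ext i j
  fin_cases i <;> fin_cases j <;>
    simp [unitMat, Matrix.mul_apply, Fin.sum_univ_three]
  · linear_combination (z * z') * h2
  · linear_combination (z * z') * h2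
  · linear_combination (z * x' ^ 4 - 2 * x ^ 3 * x' - 3 * x ^ 2 * x' ^ 2 - 2 * x * x' ^ 3) * h2
  · linear_combination (z * z') * h2
  · linear_combination (z * z') * h2
  · linear_combination (z * x' ^ 4 - 2 * x ^ 3 * x' - 3 * x ^ 2 * x' ^ 2 - 2 * x * x' ^ 3) * h2
  · linear_combination (x * z') * h2
  · linear_combination (x * z') * h2
  · linear_combination (x * x' ^ 4) * h2

theorem unitMat_zero : unitMat (0 : F) 0 = 1 := by
  ext i j
  fin_cases i <;> fin_cases j <;> simp [unitMat]

theorem unitMat_det (h2 : (2 : F) = 0) (x z : F) : (unitMat x z).det = 1 := by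
  simp [unitMat, Matrix.det_fin_three]
  linear_combination (z - x ^ 5) * h2

theorem unitMat_preserves (hF : Fintype.card F = 16) {x z : F} (hz : z ^ 4 + z = x ^ 5)
    (u v : Fin 3 → F) :
    Cfsg.hermForm 3 F 4 ((unitMat x z).mulVec u) ((unitMat x z).mulVec v) =
      Cfsg.hermForm 3 F 4 u v := by
  have h2 := two_eq_zero hF
  have h16 : x ^ 16 = x := hF ▸ FiniteField.pow_card x
  have hadd : ∀ a b : F, (a + b) ^ 4 = a ^ 4 + b ^ 4 := fun a b => by
    linear_combination (2 * a ^ 3 * b + 3 * a ^ 2 * b ^ 2 + 2 * a * b ^ 3) * h2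
  simp [Cfsg.hermForm, unitMat, Matrix.mulVec, dotProduct, Fin.sum_univ_three, hadd, mul_pow,
    ← pow_mul, h16]
  linear_combination
    ((u 0 + u 1) * (v 0 ^ 4 + v 1 ^ 4)) * hz +
      (u 0 * (v 0 ^ 4 * (z * z ^ 4) + v 1 ^ 4 * (z * z ^ 4) + x * v 2 ^ 4 * z) +
        u 1 * (v 0 ^ 4 * (z * z ^ 4) + v 1 ^ 4 * (z * z ^ 4) + x * v 2 ^ 4 * z) +
        u 2 * (x ^ 4 * z ^ 4 * (v 0 ^ 4 + v 1 ^ 4) + x ^ 5 * v 2 ^ 4) +
        x ^ 5 * (u 0 + u 1) * (v 0 ^ 4 + v 1 ^ 4) + u 2 * x ^ 4 * (v 0 ^ 4 + v 1 ^ 4) +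
        (u 0 + u 1) * x * v 2 ^ 4) * h2

/-- A unitary unipotent element. -/
def unitElt (hF : Fintype.card F = 16) (p : {p : F × F // p.2 ^ 4 + p.2 = p.1 ^ 5}) :
    Cfsg.SU 3 F 4 :=
  ⟨⟨unitMat p.1.1 p.1.2, unitMat_det (two_eq_zero hF) _ _⟩, fun u v =>
    unitMat_preserves hF p.2 u v⟩

theorem unitElt_ext (hF : Fintype.card F = 16) {g : Cfsg.SU 3 F 4}
    {p : {p : F × F // p.2 ^ 4 + p.2 = p.1 ^ 5}}
    (h : ((g : Matrix.SpecialLinearGroup (Fin 3) F) : Matrix (Fin 3) (Fin 3) F) =
      unitMat p.1.1 p.1.2) : g = unitElt hF p :=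
  Subtype.ext (Subtype.ext h)

theorem cond_mul (hF : Fintype.card F = 16) {x z x' z' : F} (h : z ^ 4 + z = x ^ 5)
    (h' : z' ^ 4 + z' = x' ^ 5) :
    (z + z' + x ^ 4 * x') ^ 4 + (z + z' + x ^ 4 * x') = (x + x') ^ 5 := by
  have h2 := two_eq_zero hF
  have h16 : x ^ 16 = x := hF ▸ FiniteField.pow_card x
  have hadd : ∀ a b : F, (a + b) ^ 4 = a ^ 4 + b ^ 4 := fun a b => by
    linear_combination (2 * a ^ 3 * b + 3 * a ^ 2 * b ^ 2 + 2 * a * b ^ 3) * h2
  rw [hadd, hadd, mul_pow, ← pow_mul, h16, show (x + x') ^ 5 = (x + x') ^ 4 * (x + x') by ring, hadd]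
  linear_combination h + h'

/-- The Sylow 2-subgroup of `SU₃(4)` fixing `(1,1,0)`. -/
def unitGroup (hF : Fintype.card F = 16) : Subgroup (Cfsg.SU 3 F 4) where
  carrier := {g | ∃ p, g = unitElt hF p}
  one_mem' := ⟨⟨(0, 0), by simp⟩, unitElt_ext hF unitMat_zero.symm⟩
  mul_mem' := by
    rintro _ _ ⟨p, rfl⟩ ⟨p', rfl⟩
    exact ⟨⟨(_, _), cond_mul hF p.2 p'.2⟩,
      unitElt_ext hF (unitMat_mul (two_eq_zero hF) _ _ _ _)⟩
  inv_mem' := by
    rintro _ ⟨p, rfl⟩
    have h2 := two_eq_zero hF
    have h16 : p.1.1 ^ 16 = p.1.1 := hF ▸ FiniteField.pow_card _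
    have hcond : (p.1.2 + p.1.1 ^ 5) ^ 4 + (p.1.2 + p.1.1 ^ 5) = p.1.1 ^ 5 := by
      have hadd : ∀ a b : F, (a + b) ^ 4 = a ^ 4 + b ^ 4 := fun a b => by
        linear_combination (2 * a ^ 3 * b + 3 * a ^ 2 * b ^ 2 + 2 * a * b ^ 3) * h2
      rw [hadd, show (p.1.1 ^ 5) ^ 4 = p.1.1 ^ 16 * p.1.1 ^ 4 by ring, h16]
      linear_combination p.2 + p.1.1 ^ 5 * h2
    refine ⟨⟨(p.1.1, p.1.2 + p.1.1 ^ 5), hcond⟩, inv_eq_of_mul_eq_one_right ?_⟩
    refine Subtype.ext (Subtype.ext ?_)
    show unitMat _ _ * unitMat _ _ = 1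
    rw [unitMat_mul h2, ← unitMat_zero]
    congr 1
    · linear_combination p.1.1 * h2
    · linear_combination (p.1.2 + p.1.1 ^ 5) * h2

theorem hasSquaring_unitGroup (hF : Fintype.card F = 16) : HasSquaring ellQ (unitGroup hF) := by
  classical
  have h2 := two_eq_zero hF
  obtain ⟨a, ha⟩ := exists_pow_add hF (c := (1 : F)) (one_pow 4)
  set ω := a * a + a with hωdef
  have hω : ω * ω = ω + 1 := by
    linear_combination ha + (a ^ 3 - a) * h2
  let e : Quad →+* F :=
    { toFun := quadTo ω
      map_one' := rfl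
      map_mul' := quadTo_mul h2 hω
      map_zero' := rfl
      map_add' := quadTo_add h2 }
  have he : Function.Injective e := e.injective
  have he4 : ∀ r : Quad, e r ^ 4 = e r := fun r => by
    rw [← map_pow, show r ^ 4 = r from (by decide +kernel : ∀ r : Quad, r ^ 4 = r) r]
  have hlin : ∀ b c : F, (b + c) ^ 4 = b ^ 4 + c ^ 4 := fun b c => by
    linear_combination (2 * b ^ 3 * c + 3 * b ^ 2 * c ^ 2 + 2 * b * c ^ 3) * h2
  -- coordinates on the field of sixteen elements
  let g : Quad × Quad →+ F :=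
    { toFun := fun p => e p.1 + e p.2 * a
      map_zero' := by simp
      map_add' := fun p q => by simp only [Prod.fst_add, Prod.snd_add, map_add]; ring }
  have hg : Function.Bijective g := by
    refine Function.Injective.bijective_of_nat_card_le ?_ ?_
    · rw [injective_iff_map_eq_zero]
      rintro ⟨r, s⟩ hrs
      change e r + e s * a = 0 at hrs
      have h4 := congrArg (· ^ 4) hrs
      simp only [hlin, mul_pow, he4, zero_pow (by norm_num : (4 : ℕ) ≠ 0)] at h4
      have hs : e s = 0 := by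
        linear_combination h4 + hrs - e s * ha - (e r) * h2
      have hr : e r = 0 := by rw [hs, zero_mul, add_zero] at hrs; exact hrs
      exact Prod.ext (he (hr.trans (map_zero e).symm)) (he (hs.trans (map_zero e).symm))
    · rw [Nat.card_eq_fintype_card, hF, Nat.card_prod, Nat.card_eq_fintype_card, Golay.card_quad]
  let gE := AddEquiv.ofBijective g hg
  have hwe : ∀ w : Quad, e w ^ 4 + e w = (0 : F) ^ 5 := fun w => by
    rw [he4, zero_pow (by norm_num)]; linear_combination e w * h2
  let toX : unitGroup hF →* Multiplicative F :=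
    { toFun := fun t => Multiplicative.ofAdd
        (((t.1 : Matrix.SpecialLinearGroup (Fin 3) F) : Matrix (Fin 3) (Fin 3) F) 2 0)
      map_one' := by simp
      map_mul' := by
        rintro ⟨_, p, rfl⟩ ⟨_, p', rfl⟩
        rw [← ofAdd_add]
        refine congrArg Multiplicative.ofAdd ?_
        show (unitMat p.1.1 p.1.2 * unitMat p'.1.1 p'.1.2) 2 0 = p.1.1 + p'.1.1
        rw [unitMat_mul h2]
        simp [unitMat] }
  let ι : Multiplicative Quad →* unitGroup hF :=
    { toFun := fun w => ⟨unitElt hF ⟨(0, e w.toAdd), hwe _⟩, _, rfl⟩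
      map_one' := Subtype.ext (Subtype.ext (Subtype.ext (by
        show unitMat 0 (e 0) = 1
        rw [map_zero, unitMat_zero])))
      map_mul' := fun u v => Subtype.ext (Subtype.ext (Subtype.ext (by
        show unitMat 0 (e (u * v).toAdd) = unitMat 0 (e u.toAdd) * unitMat 0 (e v.toAdd)
        rw [unitMat_mul h2, toAdd_mul, map_add]
        simp))) }
  let π : unitGroup hF →* Multiplicative (Quad × Quad) :=
    gE.symm.toMultiplicative.toMonoidHom.comp toX
  refine ⟨π, ι, ?_, ?_, ?_, ?_, ?_⟩
  · intro w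
    obtain ⟨z, hz⟩ := exists_pow_add hF (c := gE w.toAdd ^ 5) (by
      rw [← pow_mul, show gE w.toAdd ^ (5 * 4) = gE w.toAdd ^ 16 * gE w.toAdd ^ 4 by ring,
        show gE w.toAdd ^ 16 = gE w.toAdd from hF ▸ FiniteField.pow_card _]
      ring)
    refine ⟨⟨unitElt hF ⟨(gE w.toAdd, z), hz⟩, _, rfl⟩, ?_⟩
    apply Multiplicative.toAdd.injective
    show gE.symm (gE w.toAdd) = w.toAdd
    rw [AddEquiv.symm_apply_apply]
  · intro u v huv
    have h := congrFun (congrFun (congrArg (fun t : unitGroup hF =>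
      ((t.1 : Matrix.SpecialLinearGroup (Fin 3) F) : Matrix (Fin 3) (Fin 3) F)) huv) 0) 1
    exact Multiplicative.toAdd.injective (he (by simpa [ι, unitElt, unitMat] using h))
  · rintro _ ⟨w, rfl⟩
    rw [Subgroup.mem_center_iff]
    rintro ⟨_, p, rfl⟩
    refine Subtype.ext (Subtype.ext (Subtype.ext ?_))
    show unitMat p.1.1 p.1.2 * unitMat 0 (e w.toAdd) = unitMat 0 (e w.toAdd) * unitMat p.1.1 p.1.2
    rw [unitMat_mul h2, unitMat_mul h2]
    congr 1 <;> ring
  · ext t
    obtain ⟨_, p, rfl⟩ := t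
    constructor
    · rintro ⟨w, hw⟩
      rw [← hw, MonoidHom.mem_ker]
      show Multiplicative.ofAdd (gE.symm ((unitMat (0 : F) (e w.toAdd)) 2 0)) = 1
      rw [show (unitMat (0 : F) (e w.toAdd)) 2 0 = 0 by simp [unitMat], map_zero, ofAdd_zero]
    · intro hp
      have hx : p.1.1 = 0 := by
        have h1 : gE.symm p.1.1 = 0 := Multiplicative.ofAdd.injective
          ((show Multiplicative.ofAdd (gE.symm (unitMat p.1.1 p.1.2 2 0)) = 1 from hp) |>
            fun h => by simpa [unitMat] using h)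
        simpa using congrArg gE h1
      have hz := p.2
      rw [hx, zero_pow (by norm_num)] at hz
      have hroot : ∃ w : Quad, e w = p.1.2 := by
        have h1 : p.1.2 * (p.1.2 + 1) * ((p.1.2 + ω) * (p.1.2 + (ω + 1))) = 0 := by
          linear_combination hz + p.1.2 * (p.1.2 + 1) * hω +
            (p.1.2 ^ 3 * (ω + 1) + p.1.2 ^ 2 * (2 * ω + 1) + p.1.2 * ω) * h2
        rcases mul_eq_zero.mp h1 with h | h
        · rcases mul_eq_zero.mp h with h | h
          · exact ⟨0, by rw [map_zero, h]⟩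
          · exact ⟨1, by rw [map_one]; linear_combination -h + 1 * h2⟩
        · rcases mul_eq_zero.mp h with h | h
          · exact ⟨om, show ω = p.1.2 by linear_combination -h + ω * h2⟩
          · exact ⟨om * om, show ω + 1 = p.1.2 by linear_combination -h + (ω + 1) * h2⟩
      obtain ⟨w, hw⟩ := hroot
      refine ⟨Multiplicative.ofAdd w, Subtype.ext (Subtype.ext (Subtype.ext ?_))⟩
      show unitMat 0 (e w) = unitMat p.1.1 p.1.2
      rw [hw, hx]
  · rintro ⟨_, p, rfl⟩
    refine Subtype.ext (Subtype.ext (Subtype.ext ?_))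
    show unitMat p.1.1 p.1.2 * unitMat p.1.1 p.1.2 =
      unitMat 0 (e (ellQ (gE.symm ((unitMat p.1.1 p.1.2) 2 0))))
    rw [show (unitMat p.1.1 p.1.2) 2 0 = p.1.1 by simp [unitMat]]
    obtain ⟨⟨r, s⟩, hrs⟩ := gE.surjective p.1.1
    rw [← hrs, AddEquiv.symm_apply_apply, unitMat_mul h2]
    congr 1
    · linear_combination gE (r, s) * h2
    · show p.1.2 + p.1.2 + (e r + e s * a) ^ 4 * (e r + e s * a) = e (r * r + r * s + om * s * s)
      rw [hlin, mul_pow, he4, he4, map_add, map_add, map_mul, map_mul, map_mul, map_mul,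
        show e om = ω from rfl]
      linear_combination (e r * e s + a * e s * e s) * ha + (p.1.2 - a * a * e s * e s) * h2

theorem psu_squaring (hF : Fintype.card F = 16) (P : Sylow 2 (Cfsg.PSU 3 F 4)) :
    HasSquaring ellQ (P : Subgroup (Cfsg.PSU 3 F 4)) := by
  have hF' : Fintype.card F = 4 ^ 2 := by rw [hF]; norm_num
  refine sylow_squaring (hasSquaring_unitGroup hF) ?_ (m := 975) (by decide) ?_ P
  · rw [Classical.natCard_center_SU hF' 3 (by norm_num)]; decide
  · have h := Classical.natCard_PSU hF' 3 (by norm_num)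
    simp [Finset.prod_range_succ, show ¬ Even 1 by decide, show Even 2 by decide] at h
    change Nat.card (Cfsg.PSU 3 F 4) = 64 * 975
    omega

end Unitary

end Cfsg.Agent.Lib.FourFixed58
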