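import Mathlib

/-!
# Central extensions of elementary abelian 2-groups are determined by the squaring map
-/

set_option autoImplicit false

namespace Cfsg.Agent.Lib.FourFixed58

variable {A W : Type*} [AddCommGroup A] [AddCommGroup W]

/-- `T` is a central extension of `W` by `A` in which squaring is given by `q`. -/
def HasSquaring (q : A → W) (T : Type*) [Group T] : Prop :=
  ∃ (π : T →* Multiplicative A) (ι : Multiplicative W →* T), Function.Surjective π ∧
    Function.Injective ι ∧ ι.range ≤ Subgroup.center T ∧ ι.range = π.ker ∧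
      ∀ t : T, t * t = ι (Multiplicative.ofAdd (q (π t).toAdd))

theorem HasSquaring.of_mulEquiv {q : A → W} {T T' : Type*} [Group T] [Group T'] (e : T ≃* T')
    (h : HasSquaring q T) : HasSquaring q T' := by
  obtain ⟨π, ι, hπ, hι, hc, hk, hsq⟩ := h
  refine ⟨π.comp e.symm.toMonoidHom, e.toMonoidHom.comp ι, hπ.comp e.symm.surjective,
    e.injective.comp hι, ?_, ?_, fun t => ?_⟩
  · rintro _ ⟨w, rfl⟩
    rw [Subgroup.mem_center_iff]
    intro g
    obtain ⟨g, rfl⟩ := e.surjective g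
    have h1 := Subgroup.mem_center_iff.mp (hc ⟨w, rfl⟩) g
    simpa using congrArg e h1
  · ext t
    obtain ⟨t, rfl⟩ := e.surjective t
    have h1 : t ∈ ι.range ↔ t ∈ π.ker := by rw [hk]
    simp only [MonoidHom.mem_range, MonoidHom.mem_ker] at h1 ⊢
    simp only [MonoidHom.coe_comp, Function.comp_apply, MulEquiv.coe_toMonoidHom,
      EmbeddingLike.apply_eq_iff_eq, MulEquiv.symm_apply_apply]
    exact h1
  · obtain ⟨t, rfl⟩ := e.surjective t
    simpa using congrArg e (hsq t)

theorem HasSquaring.reparam {q q' : A → W} {T : Type*} [Group T] (g : A ≃+ A) (f : W ≃+ W)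
    (hq : ∀ a, q (g a) = f (q' a)) (h : HasSquaring q T) : HasSquaring q' T := by
  obtain ⟨π, ι, hπ, hι, hc, hk, hsq⟩ := h
  let G : Multiplicative A ≃* Multiplicative A := g.toMultiplicative
  let Φ : Multiplicative W ≃* Multiplicative W := f.toMultiplicative
  have hr : (ι.comp Φ.toMonoidHom).range = ι.range := by
    ext x
    simp only [MonoidHom.mem_range, MonoidHom.coe_comp, Function.comp_apply]
    exact ⟨fun ⟨w, hw⟩ => ⟨_, hw⟩, fun ⟨w, hw⟩ => ⟨Φ.symm w, by simpa using hw⟩⟩
  refine ⟨G.symm.toMonoidHom.comp π, ι.comp Φ.toMonoidHom, G.symm.surjective.comp hπ,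
    hι.comp Φ.injective, hr ▸ hc, ?_, fun t => ?_⟩
  · rw [hr, hk]
    ext t
    simp [MonoidHom.mem_ker]
  · rw [hsq t]
    refine congrArg ι (congrArg Multiplicative.ofAdd ?_)
    have e : g (G.symm (π t)).toAdd = (π t).toAdd := g.apply_symm_apply _
    change _ = f (q' (G.symm (π t)).toAdd)
    rw [← hq, e]

theorem HasSquaring.natCard {q : A → W} {T : Type*} [Group T] (h : HasSquaring q T) :
    Nat.card T = Nat.card A * Nat.card W := by
  obtain ⟨π, ι, hπ, hι, -, hk, -⟩ := h
  rw [Subgroup.card_eq_card_quotient_mul_card_subgroup π.ker,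
    Nat.card_congr (QuotientGroup.quotientKerEquivOfSurjective π hπ).toEquiv, ← hk,
    ← Nat.card_congr (MonoidHom.ofInjective hι).toEquiv]
  rfl

theorem bijective_of_lifts {R Z : Type*} [Group R] [Group Z] [Finite R] [Finite Z] (φ : R →* Z)
    (π : Z →* Multiplicative A) (ι : Multiplicative W →* Z) (P : Subgroup R) (hk : ι.range = π.ker)
    {n : ℕ} (g : Fin n → A)
    (hgen : ∀ S : Subgroup (Multiplicative A), (∀ i, Multiplicative.ofAdd (g i) ∈ S) → S = ⊤)
    (hg : ∀ i, ∃ r ∈ P, π (φ r) = Multiplicative.ofAdd (g i)) (hι : ∀ w, ∃ r ∈ P, φ r = ι w)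
    (hcard : Nat.card P ≤ Nat.card Z) : Function.Bijective (φ.comp P.subtype) := by
  have hsur : Function.Surjective (φ.comp P.subtype) := by
    intro z
    have htop := hgen ((P.map φ).map π) fun i => by
      obtain ⟨r, hr, e⟩ := hg i
      exact ⟨_, ⟨r, hr, rfl⟩, e⟩
    obtain ⟨_, ⟨p, hp, rfl⟩, hpz⟩ : π z ∈ (P.map φ).map π := htop ▸ Subgroup.mem_top _
    have : (φ p)⁻¹ * z ∈ π.ker := by rw [MonoidHom.mem_ker, map_mul, map_inv, hpz, inv_mul_cancel]
    rw [← hk] at this
    obtain ⟨w, hw⟩ := this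
    obtain ⟨r, hr, e⟩ := hι w
    refine ⟨⟨p * r, P.mul_mem hp hr⟩, ?_⟩
    change φ (p * r) = z
    rw [map_mul, e, hw, mul_inv_cancel_left]
  exact hsur.bijective_of_nat_card_le hcard

/-- Such extensions with the same squaring map are isomorphic. -/
theorem HasSquaring.nonempty_mulEquiv {q : A → W} {X Y : Type*} [Group X] [Group Y] [Finite X]
    [Finite Y] (hX : HasSquaring q X) (hY : HasSquaring q Y) {n : ℕ} (g : Fin n → A)
    (hgen : ∀ S : Subgroup (Multiplicative A), (∀ i, Multiplicative.ofAdd (g i) ∈ S) → S = ⊤)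
    (hcard : 2 ^ n ≤ Nat.card A) : Nonempty (X ≃* Y) := by
  classical
  have cX := hX.natCard
  have cY := hY.natCard
  obtain ⟨πX, ιX, hπX, hιX, hcX, hkX, hsX⟩ := hX
  obtain ⟨πY, ιY, hπY, hιY, hcY, hkY, hsY⟩ := hY
  choose s hs using fun i => hπX (Multiplicative.ofAdd (g i))
  choose t ht using fun i => hπY (Multiplicative.ofAdd (g i))
  set D : Subgroup (X × Y) := (ιX.prod ιY).range with hD
  have hDc : D ≤ Subgroup.center (X × Y) := by
    rintro _ ⟨w, rfl⟩
    rw [Subgroup.mem_center_iff]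
    rintro ⟨a, b⟩
    exact Prod.ext (Subgroup.mem_center_iff.mp (hcX ⟨w, rfl⟩) a)
      (Subgroup.mem_center_iff.mp (hcY ⟨w, rfl⟩) b)
  haveI : D.Normal := ⟨fun d hd a => by
    rw [Subgroup.mem_center_iff.mp (hDc hd) a, mul_inv_cancel_right]; exact hd⟩
  set P : Subgroup (X × Y) := Subgroup.closure (Set.range fun i => (s i, t i)) ⊔ D with hP
  set L : Subgroup (X × Y) := (πX.comp (MonoidHom.fst X Y)).eqLocus (πY.comp (MonoidHom.snd X Y))
  have hker : ∀ w, πX (ιX w) = 1 ∧ πY (ιY w) = 1 := fun w =>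
    ⟨MonoidHom.mem_ker.mp (hkX.le ⟨w, rfl⟩), MonoidHom.mem_ker.mp (hkY.le ⟨w, rfl⟩)⟩
  have hPL : P ≤ L := by
    refine sup_le ((Subgroup.closure_le _).mpr ?_) ?_
    · rintro _ ⟨i, rfl⟩
      exact (hs i).trans (ht i).symm
    · rintro _ ⟨w, rfl⟩
      exact (hker w).1.trans (hker w).2.symm
  have hsq : ∀ z ∈ P, z * z ∈ D := fun z hz => by
    refine ⟨Multiplicative.ofAdd (q (πX z.1).toAdd), ?_⟩
    have e : πX z.1 = πY z.2 := hPL hz
    exact Prod.ext (hsX z.1).symm (by rw [e]; exact (hsY z.2).symm)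
  -- the image modulo `D` has at most `2 ^ n` elements
  set m := QuotientGroup.mk' D
  set u : Fin n → (X × Y) ⧸ D := fun i => m (s i, t i) with hu
  have hex : ∀ z ∈ P.map m, z * z = 1 := by
    rintro _ ⟨z, hz, rfl⟩
    rw [← map_mul]
    exact (QuotientGroup.eq_one_iff _).mpr (hsq z hz)
  have hcomm : ∀ a ∈ P.map m, ∀ b ∈ P.map m, Commute a b := fun a ha b hb => by
    have h1 := hex _ ((P.map m).mul_mem ha hb)
    have h2 := inv_eq_of_mul_eq_one_right (hex a ha)
    have h3 := inv_eq_of_mul_eq_one_right (hex b hb)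
    calc a * b = (a * b)⁻¹ := (inv_eq_of_mul_eq_one_right h1).symm
      _ = b * a := by rw [mul_inv_rev, h2, h3]
  have humem : ∀ i, u i ∈ P.map m := fun i =>
    ⟨_, Subgroup.mem_sup_left (Subgroup.subset_closure ⟨i, rfl⟩), rfl⟩
  have hc' : Pairwise fun i j : Fin n => ∀ x y, x ∈ Subgroup.zpowers (u i) →
      y ∈ Subgroup.zpowers (u j) → Commute x y := fun i j _ x y hx hy =>
    hcomm x (Subgroup.zpowers_le.mpr (humem i) hx) y (Subgroup.zpowers_le.mpr (humem j) hy)
  have hrange : P.map m ≤ (Subgroup.noncommPiCoprod hc').range := by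
    rw [Subgroup.noncommPiCoprod_range, hP, Subgroup.map_sup, MonoidHom.map_closure]
    refine sup_le ((Subgroup.closure_le _).mpr ?_) ?_
    · rintro _ ⟨_, ⟨i, rfl⟩, rfl⟩
      exact Subgroup.mem_iSup_of_mem i (Subgroup.mem_zpowers _)
    · rintro _ ⟨d, hd, rfl⟩
      have h1 : m d = 1 := (QuotientGroup.eq_one_iff d).mpr hd
      rw [h1]; exact one_mem _
  have hcq : Nat.card (P.map m) ≤ 2 ^ n := by
    refine le_trans (Subgroup.card_le_of_le hrange) ?_
    refine le_trans (Nat.card_le_card_of_surjective _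
      (MonoidHom.rangeRestrict_surjective (Subgroup.noncommPiCoprod hc'))) ?_
    rw [Nat.card_pi]
    refine le_trans (Finset.prod_le_pow_card _ _ 2 fun i _ => ?_) (by simp)
    rw [Nat.card_zpowers]
    exact Nat.le_of_dvd two_pos (orderOf_dvd_of_pow_eq_one (by rw [pow_two]; exact hex _ (humem i)))
  have hcardP : Nat.card P ≤ Nat.card A * Nat.card W := by
    have hDP : D ≤ P := le_sup_right
    rw [Subgroup.card_eq_card_quotient_mul_card_subgroup (D.subgroupOf P)]
    refine Nat.mul_le_mul ?_ ?_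
    · refine le_trans (le_of_eq ?_) (hcq.trans hcard)
      let f : P →* ↥(P.map m) := m.subgroupMap P
      have hfk : f.ker = D.subgroupOf P := by
        ext z
        rw [MonoidHom.mem_ker, Subgroup.mem_subgroupOf, ← QuotientGroup.eq_one_iff (N := D)]
        exact ⟨fun h => congrArg Subtype.val h, fun h => Subtype.ext h⟩
      rw [← hfk]
      exact Nat.card_congr (QuotientGroup.quotientKerEquivOfSurjective f
        (m.subgroupMap_surjective P)).toEquiv
    · rw [Nat.card_congr (Subgroup.subgroupOfEquivOfLe hDP).toEquiv]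
      have : Finite W := Finite.of_injective (fun w => ιX (Multiplicative.ofAdd w))
        (hιX.comp Multiplicative.ofAdd.injective)
      exact Nat.card_le_card_of_surjective (fun w : W => (ιX.prod ιY).rangeRestrict
        (Multiplicative.ofAdd w)) fun ⟨_, w, hw⟩ => ⟨w.toAdd, Subtype.ext hw⟩
  -- both projections are bijective
  exact ⟨(MulEquiv.ofBijective _ (bijective_of_lifts (MonoidHom.fst X Y) πX ιX P hkX g hgen
      (fun i => ⟨_, Subgroup.mem_sup_left (Subgroup.subset_closure ⟨i, rfl⟩), hs i⟩)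
      (fun w => ⟨_, Subgroup.mem_sup_right ⟨w, rfl⟩, rfl⟩) (cX ▸ hcardP))).symm.trans
    (MulEquiv.ofBijective _ (bijective_of_lifts (MonoidHom.snd X Y) πY ιY P hkY g hgen
      (fun i => ⟨_, Subgroup.mem_sup_left (Subgroup.subset_closure ⟨i, rfl⟩), ht i⟩)
      (fun w => ⟨_, Subgroup.mem_sup_right ⟨w, rfl⟩, rfl⟩) (cY ▸ hcardP)))⟩

end Cfsg.Agent.Lib.FourFixed58
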