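import Cfsg.Agent.Lib.FourFixed58.Coord
import Cfsg.Agent.Lib.FourFixed58.Squaring

/-!
# The nonabelian groups of order 64
-/

set_option autoImplicit false

namespace Cfsg.Agent.Lib.FourFixed58

open Golay (Quad)
open scoped commutatorElement

/-- The squaring map of a Sylow 2-subgroup of `PSL₃(4)`. -/
def hyperQ (p : Quad × Quad) : Quad := p.1 * p.2

/-- The squaring map of a Sylow 2-subgroup of `PSU₃(4)`. -/
def ellQ (p : Quad × Quad) : Quad := p.1 * p.1 + p.1 * p.2 + om * p.2 * p.2

theorem sqrt_mul : ∀ c x : Quad, c ≠ 0 →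
    (x = c * ((x * x * (c⁻¹ * c⁻¹)) * (x * x * (c⁻¹ * c⁻¹)))) := by decide +kernel

theorem mul_self_add : ∀ x y : Quad, (x + y) * (x + y) = x * x + y * y := by decide +kernel

theorem sq_sq : ∀ x : Quad, x * x * (x * x) = x := by decide +kernel

/-- The plane map given by a matrix of nonzero determinant. -/
noncomputable def planeEquiv (a b c d : Quad) (h : a * d + b * c ≠ 0) :
    Quad × Quad ≃+ Quad × Quad :=
  AddEquiv.ofBijective
    ({ toFun := fun p => (a * p.1 + b * p.2, c * p.1 + d * p.2)
       map_zero' := by simp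
       map_add' := fun p q => by
        simp only [Prod.fst_add, Prod.snd_add, Prod.mk_add_mk, Prod.mk.injEq]
        constructor <;> ring } : Quad × Quad →+ Quad × Quad)
    (Finite.injective_iff_bijective.mp <| by
      have hneg : ∀ x : Quad, -x = x := fun x => rfl
      intro p q hpq
      simp only [AddMonoidHom.coe_mk, ZeroHom.coe_mk, Prod.mk.injEq] at hpq
      obtain ⟨h1, h2⟩ := hpq
      have e1 : (a * d + b * c) * (p.1 - q.1) = 0 := by
        have : (a * d - b * c) * (p.1 - q.1) = 0 := by linear_combination d * h1 - b * h2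
        rwa [sub_eq_add_neg (a * d), hneg] at this
      have e2 : (a * d + b * c) * (p.2 - q.2) = 0 := by
        have : (a * d - b * c) * (p.2 - q.2) = 0 := by linear_combination a * h2 - c * h1
        rwa [sub_eq_add_neg (a * d), hneg] at this
      exact Prod.ext (sub_eq_zero.mp ((mul_eq_zero.mp e1).resolve_left h))
        (sub_eq_zero.mp ((mul_eq_zero.mp e2).resolve_left h)))

/-- The additive map `w ↦ c w²`. -/
noncomputable def frobScale (c : Quad) (h : c ≠ 0) : Quad ≃+ Quad :=
  AddEquiv.ofBijective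
    ({ toFun := fun w => c * (w * w)
       map_zero' := by simp
       map_add' := fun x y => by rw [mul_self_add, mul_add] } : Quad →+ Quad)
    (Finite.injective_iff_bijective.mp <| by
      intro x y hxy
      simp only [AddMonoidHom.coe_mk, ZeroHom.coe_mk] at hxy
      have h1 := mul_left_cancel₀ h hxy
      rw [← sq_sq x, h1, sq_sq])

namespace IsFourFixed

variable {T : Type*} [Group T] [Finite T] {τ ρ : MulAut T} (h : IsFourFixed τ ρ)
include h

/-- If all squares are fixed, so are all commutators. -/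
theorem comm_mem (hsq : ∀ x : T, x * x ∈ Fix τ) (x y : T) : ⁅x, y⁆ ∈ Fix τ := by
  haveI := h.fix_normal
  rw [← QuotientGroup.eq_one_iff, QuotientGroup.mk'_apply (N := Fix τ) ⁅x, y⁆ |>.symm,
    map_commutatorElement, commutatorElement_eq_one_iff_mul_comm]
  have hex : ∀ u : T ⧸ Fix τ, u⁻¹ = u := fun u => by
    obtain ⟨z, rfl⟩ := QuotientGroup.mk_surjective u
    exact inv_eq_of_mul_eq_one_right ((QuotientGroup.eq_one_iff (z * z)).mpr (hsq z))
  set m := QuotientGroup.mk' (Fix τ)
  have := hex (m x * m y)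
  rw [mul_inv_rev, hex, hex] at this
  exact this.symm

/-- If all squares are fixed, so are the products over `ρ`-orbits. -/
theorem orbit_mem (hsq : ∀ x : T, x * x ∈ Fix τ) (x : T) : x * ρ x * ρ (ρ x) ∈ Fix τ := by
  haveI := h.fix_normal
  by_cases htop : Fix τ = ⊤
  · rw [htop]; exact Subgroup.mem_top _
  obtain ⟨τ', ρ', h', -, hρ'⟩ := h.exists_quotient htop
  have hc : ∀ u v : T ⧸ Fix τ, Commute u v := fun u v => by
    obtain ⟨u, rfl⟩ := QuotientGroup.mk_surjective u
    obtain ⟨v, rfl⟩ := QuotientGroup.mk_surjective v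
    exact commutatorElement_eq_one_iff_commute.mp
      ((map_commutatorElement (QuotientGroup.mk' (Fix τ)) u v).symm.trans
        ((QuotientGroup.eq_one_iff _).mpr (h.comm_mem hsq u v)))
  rw [← QuotientGroup.eq_one_iff, QuotientGroup.mk_mul, QuotientGroup.mk_mul, ← hρ', ← hρ', ← hρ']
  exact h'.prod_orbit_eq_one (hc _ _) (hc _ _)

/-- The nonabelian groups of order 64 with squares fixed. -/
theorem hasSquaring (hsq : ∀ x : T, x * x ∈ Fix τ) (h64 : Nat.card T = 64)
    (hna : ¬ ∀ a b : T, a * b = b * a) : HasSquaring hyperQ T ∨ HasSquaring ellQ T := by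
  classical
  haveI := h.fix_normal
  have hne : Fix τ ≠ ⊤ := fun e => by
    have := h.card_fix
    rw [show (τ : T →* T).eqLocus (MonoidHom.id T) = ⊤ from e, Subgroup.card_top] at this
    omega
  obtain ⟨τ', ρ', h', -, hρ'⟩ := h.exists_quotient hne
  set m := QuotientGroup.mk' (Fix τ) with hm
  have hex : ∀ u : T ⧸ Fix τ, u * u = 1 := fun u => by
    obtain ⟨z, rfl⟩ := QuotientGroup.mk_surjective u
    exact (QuotientGroup.eq_one_iff (z * z)).mpr (hsq z)
  obtain ⟨e, he⟩ := h'.exists_coord hex (by
    have := Subgroup.card_eq_card_quotient_mul_card_subgroup (Fix τ)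
    rw [h64, show Nat.card (Fix τ) = 4 from h.card_fix] at this
    omega)
  obtain ⟨ι, hι, hιr, hιρ⟩ := h.exists_iota
  set π : T →* Multiplicative (Quad × Quad) := e.symm.toMonoidHom.comp m with hπ
  have hπs : Function.Surjective π := e.symm.surjective.comp (QuotientGroup.mk'_surjective _)
  have hπk : ι.range = π.ker := by
    rw [hιr]
    ext t
    rw [hπ, MonoidHom.mem_ker, MonoidHom.comp_apply, MulEquiv.coe_toMonoidHom,
      MulEquiv.map_eq_one_iff, hm, QuotientGroup.mk'_apply, QuotientGroup.eq_one_iff]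
  have hιc : ι.range ≤ Subgroup.center T := hιr ▸ h.fix_le_center
  have hιinv : ∀ t ∈ Fix τ, ∃ r : Quad, ι (Multiplicative.ofAdd r) = t := fun t ht => by
    rw [← hιr] at ht
    obtain ⟨r, hr⟩ := ht
    exact ⟨r.toAdd, hr⟩
  choose sec hsec using fun p : Quad × Quad => hπs (Multiplicative.ofAdd p)
  choose q hq using fun p : Quad × Quad => hιinv _ (hsq (sec p))
  have hsame : ∀ t u : T, π t = π u → ∃ v ∈ Fix τ, t = u * v := fun t u htu => by
    refine ⟨u⁻¹ * t, ?_, by group⟩
    rw [← hιr, hπk, MonoidHom.mem_ker, map_mul, map_inv, htu, inv_mul_cancel]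
  have hsqι : ∀ t : T, t * t = ι (Multiplicative.ofAdd (q (π t).toAdd)) := fun t => by
    obtain ⟨v, hv, hvt⟩ := hsame t (sec (π t).toAdd) (by rw [hsec]; rfl)
    rw [hq]
    conv_lhs => rw [hvt]
    rw [mul_assoc, ← mul_assoc v, (h.central hv (sec (π t).toAdd)).eq, mul_assoc, h.sq_eq_one hv,
      mul_one]
  -- `ρ` in coordinates
  have hπρ : ∀ t : T, (π (ρ t)).toAdd = (om * (π t).toAdd.1, om * (π t).toAdd.2) := fun t => by
    have e1 : e (π t) = m t := e.apply_symm_apply _
    have e2 : ρ' (m t) = e (Multiplicative.ofAdd (om * (π t).toAdd.1, om * (π t).toAdd.2)) := by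
      rw [← e1]
      exact he (π t).toAdd.1 (π t).toAdd.2
    have e3 : π (ρ t) = e.symm (ρ' (m t)) := congrArg e.symm (hρ' t).symm
    rw [e3, e2, MulEquiv.symm_apply_apply]
    rfl
  have hqρ : ∀ r s : Quad, q (om * r, om * s) = om * q (r, s) := fun r s => by
    have h1 := hsqι (ρ (sec (r, s)))
    rw [← map_mul, ← hq, hιρ, hπρ, hsec] at h1
    exact (Multiplicative.ofAdd.injective (hι h1)).symm
  -- polarisation
  set β : Quad × Quad → Quad × Quad → Quad := fun p p' => q (p + p') + q p + q p' with hβ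
  have hchar : ∀ x : Quad, x + x = 0 := by decide +kernel
  have hneg : ∀ x y : Quad, x + y = 0 → x = y := by decide +kernel
  have hcomm : ∀ t u : T, ⁅u, t⁆ = ι (Multiplicative.ofAdd (β (π t).toAdd (π u).toAdd)) := by
    intro t u
    have hc : ⁅u, t⁆ ∈ Fix τ := h.comm_mem hsq u t
    have e1 : t * u * (t * u) = t * t * (u * u) * ⁅u, t⁆ := by
      calc t * u * (t * u) = t * (⁅u, t⁆ * (t * u)) * u := by rw [commutatorElement_def]; group
        _ = t * (t * u * ⁅u, t⁆) * u := by rw [(h.central hc (t * u)).eq]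
        _ = t * t * u * (⁅u, t⁆ * u) := by group
        _ = t * t * (u * u) * ⁅u, t⁆ := by rw [(h.central hc u).eq]; group
    rw [hsqι, hsqι, hsqι, map_mul π, toAdd_mul] at e1
    obtain ⟨r, hr⟩ := hιinv _ hc
    rw [← hr] at e1
    simp only [← map_mul, ← ofAdd_add] at e1
    have e2 := Multiplicative.ofAdd.injective (hι e1)
    rw [← hr]
    simp only [hβ]
    rw [e2]
    congr 2
    calc r = (q (π t).toAdd + q (π t).toAdd) + (q (π u).toAdd + q (π u).toAdd) + r := by
          rw [hchar, hchar, add_zero, zero_add]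
      _ = _ := by ring
  have hbl : ∀ p p' p'', β (p + p') p'' = β p p'' + β p' p'' := by
    intro p p' p''
    have h1 : ⁅sec p'', sec p * sec p'⁆ = ⁅sec p'', sec p⁆ * ⁅sec p'', sec p'⁆ :=
      comm_mul_right (h.fix_le_center (h.comm_mem hsq _ _))
    rw [hcomm, hcomm, hcomm, ← map_mul, ← ofAdd_add, map_mul, hsec, hsec, hsec] at h1
    exact Multiplicative.ofAdd.injective (hι h1)
  have hβρ : ∀ p p' : Quad × Quad, β (om * p.1, om * p.2) p' = om * (om * β p p') := by
    intro p p'
    have h1 := (h.rule (X := ⊤) (Y := ⊤) (fun _ _ => Subgroup.mem_top _)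
      (fun _ _ => Subgroup.mem_top _) (fun x _ y _ => h.comm_mem hsq x y)
      (fun x _ y _ => h.comm_central_eq_one (h.orbit_mem hsq x))
      (fun x _ y _ => commutatorElement_eq_one_iff_commute.mpr ((h.central (h.orbit_mem hsq y) x).symm))
      (x := sec p') (y := sec p) (Subgroup.mem_top _) (Subgroup.mem_top _)).2
    rw [hcomm, hcomm, hιρ, hιρ, hπρ, hsec, hsec] at h1
    exact Multiplicative.ofAdd.injective (hι h1)
  -- the quadratic map
  have hq0 : q 0 = 0 := by
    have := hbl 0 0 0
    simp only [add_zero, hchar] at this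
    have e1 : β 0 0 = q 0 + q 0 + q 0 := by simp [hβ]
    rw [e1, hchar, zero_add] at this
    exact this
  set α := q (1, 0) with hα
  set γ := q (0, 1) with hγ
  set c := β (1, 0) (0, 1) with hcdef
  have hr0 : ∀ r, q (r, 0) = r * α := fun r => by
    have s1 : q (om, 0) = om * α := by simpa using hqρ 1 0
    have s2 : q (om * om, 0) = om * om * α := by
      have := hqρ om 0
      rw [mul_zero, s1, ← mul_assoc] at this
      exact this
    rcases quad_cases r with rfl | rfl | rfl | rfl
    exacts [by rw [zero_mul]; exact hq0, (one_mul α).symm, s1, s2]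
  have hs0 : ∀ s, q (0, s) = s * γ := fun s => by
    have s1 : q (0, om) = om * γ := by simpa using hqρ 0 1
    have s2 : q (0, om * om) = om * om * γ := by
      have := hqρ 0 om
      rw [mul_zero, s1, ← mul_assoc] at this
      exact this
    rcases quad_cases s with rfl | rfl | rfl | rfl
    exacts [by rw [zero_mul]; exact hq0, (one_mul γ).symm, s1, s2]
  have hβsymm : ∀ p p', β p p' = β p' p := fun p p' => by
    simp only [hβ]; rw [add_comm p p']; ring
  have hβ0 : ∀ p', β 0 p' = 0 := fun p' => by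
    simp only [hβ, zero_add, hq0, add_zero, hchar]
  have hrs : ∀ r s, β (r, 0) (0, s) = r * r * (s * s) * c := by
    have first : ∀ r p', β (r, 0) p' = r * r * β (1, 0) p' := by
      intro r p'
      have s1 : β (om, 0) p' = om * om * β (1, 0) p' := by
        simpa [← mul_assoc] using hβρ (1, 0) p'
      rcases quad_cases r with rfl | rfl | rfl | rfl
      · rw [zero_mul, zero_mul]; exact hβ0 p'
      · rw [one_mul, one_mul]
      · exact s1
      · have := hβρ (om, 0) p'
        rw [mul_zero, s1] at this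
        rw [this]; ring
    have second : ∀ s, β (1, 0) (0, s) = s * s * c := by
      intro s
      rw [hβsymm]
      have s1 : β (0, om) (1, 0) = om * om * c := by
        rw [hcdef, hβsymm (1, 0)]
        simpa [← mul_assoc] using hβρ (0, 1) (1, 0)
      rcases quad_cases s with rfl | rfl | rfl | rfl
      · rw [zero_mul, zero_mul]; exact hβ0 _
      · rw [one_mul, one_mul, hβsymm]
      · exact s1
      · have := hβρ (0, om) (1, 0)
        rw [mul_zero, s1] at this
        rw [this]; ring
    intro r s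
    rw [first, second]; ring
  have hform : ∀ r s, q (r, s) = r * α + s * γ + r * r * (s * s) * c := fun r s => by
    rw [← hr0, ← hs0, ← hrs]
    simp only [hβ, Prod.mk_add_mk, add_zero, zero_add]
    calc q (r, s) = q (r, s) + (q (r, 0) + q (r, 0)) + (q (0, s) + q (0, s)) := by
          rw [hchar, hchar, add_zero, add_zero]
      _ = _ := by ring
  have hc0 : c ≠ 0 := by
    intro hc0
    refine hna fun a b => commutatorElement_eq_one_iff_mul_comm.mp ?_
    rw [hcomm]
    have hz : ∀ p p', β p p' = 0 := fun p p' => by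
      simp only [hβ, hform, Prod.fst_add, Prod.snd_add, hc0, mul_zero, add_zero]
      have := hchar ((p.1 * α + p.2 * γ) + (p'.1 * α + p'.2 * γ))
      rw [← this]; ring
    rw [hz, ofAdd_zero, map_one]
  have hHS : HasSquaring q T := ⟨π, ι, hπs, hι, hιc, hπk, hsqι⟩
  set α' := α * α * (c⁻¹ * c⁻¹) with hα'
  set γ' := γ * γ * (c⁻¹ * c⁻¹) with hγ'
  obtain ⟨a, b, c', d, hdet, hnf⟩ := normal_form α' γ'
  set g := planeEquiv a b c' d hdet with hg
  set Q' : Quad × Quad → Quad := fun p => p.1 * p.2 + α' * p.1 * p.1 + γ' * p.2 * p.2 with hQ'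
  have hfQ : ∀ p : Quad × Quad, q p = frobScale c hc0 (Q' p) := by
    rintro ⟨r, s⟩
    change q (r, s) = c * (Q' (r, s) * Q' (r, s))
    rw [hform]
    simp only [hQ']
    clear_value c
    rw [mul_self_add, mul_self_add, mul_add, mul_add]
    have e1 : c * (α' * r * r * (α' * r * r)) = r * α := by
      conv_rhs => rw [sqrt_mul c α hc0]
      calc c * (α' * r * r * (α' * r * r)) = r * r * (r * r) * (c * (α' * α')) := by ring
        _ = r * (c * (α' * α')) := by rw [sq_sq]
    have e2 : c * (γ' * s * s * (γ' * s * s)) = s * γ := by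
      conv_rhs => rw [sqrt_mul c γ hc0]
      calc c * (γ' * s * s * (γ' * s * s)) = s * s * (s * s) * (c * (γ' * γ')) := by ring
        _ = s * (c * (γ' * γ')) := by rw [sq_sq]
    rw [e1, e2]; ring
  rcases hnf with hh | hh
  · refine Or.inl (hHS.reparam g (frobScale c hc0) fun p => ?_)
    rw [hfQ]
    exact congrArg _ (hh p.1 p.2)
  · refine Or.inr (hHS.reparam g (frobScale c hc0) fun p => ?_)
    rw [hfQ]
    exact congrArg _ (hh p.1 p.2)

end IsFourFixed

end Cfsg.Agent.Lib.FourFixed58
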