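import Cfsg.Agent.Lib.FourFixed58.Quotient

/-!
# Commutator pairings compatible with `ρ`
-/

set_option autoImplicit false

namespace Cfsg.Agent.Lib.FourFixed58

open scoped commutatorElement

variable {T : Type*} [Group T]

theorem comm_mul_left {a b c : T} (h : ⁅b, c⁆ ∈ Subgroup.center T) :
    ⁅a * b, c⁆ = ⁅a, c⁆ * ⁅b, c⁆ := by
  rw [commutatorElement_mul_left_eq_conj_mul, Subgroup.mem_center_iff.mp h a, mul_inv_cancel_right]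
  exact (Subgroup.mem_center_iff.mp h _).symm

theorem comm_mul_right {a b c : T} (h : ⁅a, c⁆ ∈ Subgroup.center T) :
    ⁅a, b * c⁆ = ⁅a, b⁆ * ⁅a, c⁆ := by
  rw [commutatorElement_mul_right_eq_mul_conj, mul_assoc ⁅a, b⁆ b, Subgroup.mem_center_iff.mp h b,
    mul_assoc, mul_inv_cancel_right]

/-- The rule `⁅ρ x, y⁆ = ρ² ⁅x, y⁆ = ⁅x, ρ y⁆`. -/
theorem pairing_rule (ρ : MulAut T) {X Y C : Subgroup T} (hXρ : ∀ x ∈ X, ρ x ∈ X)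
    (hYρ : ∀ y ∈ Y, ρ y ∈ Y) (hcube : ∀ x, ρ (ρ (ρ x)) = x) (hCρ : ∀ c ∈ C, ρ c ∈ C)
    (hCc : C ≤ Subgroup.center T) (hC2 : ∀ c ∈ C, c * c = 1)
    (hrel : ∀ c ∈ C, ρ (ρ c) = c * ρ c) (hval : ∀ x ∈ X, ∀ y ∈ Y, ⁅x, y⁆ ∈ C)
    (hX : ∀ x ∈ X, ∀ y ∈ Y, ⁅x * ρ x * ρ (ρ x), y⁆ = 1)
    (hY : ∀ x ∈ X, ∀ y ∈ Y, ⁅x, y * ρ y * ρ (ρ y)⁆ = 1) {x y : T} (hx : x ∈ X) (hy : y ∈ Y) :
    ⁅ρ x, y⁆ = ρ (ρ ⁅x, y⁆) ∧ ⁅x, ρ y⁆ = ρ (ρ ⁅x, y⁆) := by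
  have hcm : ∀ x ∈ X, ∀ y ∈ Y, ⁅x, y⁆ ∈ Subgroup.center T := fun x hx y hy => hCc (hval x hx y hy)
  have hinv : ∀ c ∈ C, c⁻¹ = c := fun c hc => inv_eq_of_mul_eq_one_right (hC2 c hc)
  have hcommC : ∀ c ∈ C, ∀ g, c * g = g * c := fun c hc g =>
    (Subgroup.mem_center_iff.mp (hCc hc) g).symm
  -- the third term of an orbit
  have hx3 : ∀ x ∈ X, ∀ y ∈ Y, ⁅ρ (ρ x), y⁆ = ⁅x, y⁆ * ⁅ρ x, y⁆ := fun x hx y hy => by
    have h1 := hX x hx y hy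
    rw [comm_mul_left (hcm _ (hXρ _ (hXρ _ hx)) _ hy), comm_mul_left (hcm _ (hXρ _ hx) _ hy),
      mul_eq_one_iff_eq_inv'] at h1
    rw [h1, hinv _ (C.mul_mem (hval _ hx _ hy) (hval _ (hXρ _ hx) _ hy))]
  have hy3 : ∀ x ∈ X, ∀ y ∈ Y, ⁅x, ρ (ρ y)⁆ = ⁅x, y⁆ * ⁅x, ρ y⁆ := fun x hx y hy => by
    have h1 := hY x hx y hy
    rw [comm_mul_right (hcm _ hx _ (hYρ _ (hYρ _ hy))), comm_mul_right (hcm _ hx _ (hYρ _ hy)),
      mul_eq_one_iff_eq_inv'] at h1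
    rw [h1, hinv _ (C.mul_mem (hval _ hx _ hy) (hval _ hx _ (hYρ _ hy)))]
  set M := ⁅x, y⁆
  set A := ⁅ρ x, y⁆
  set B := ⁅x, ρ y⁆
  have hM : M ∈ C := hval _ hx _ hy
  have hA : A ∈ C := hval _ (hXρ _ hx) _ hy
  have hB : B ∈ C := hval _ hx _ (hYρ _ hy)
  have hMρ : ⁅ρ x, ρ y⁆ = ρ M := (map_commutatorElement ρ x y).symm
  have e1 : ρ A = B * ρ M := by
    rw [map_commutatorElement, hx3 x hx (ρ y) (hYρ _ hy), hMρ]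
  have e2 : ρ B = A * ρ M := by
    rw [map_commutatorElement, hy3 (ρ x) (hXρ _ hx) y hy, hMρ]
  have key : ∀ a b : T, a ∈ C → b ∈ C → ρ a = b * ρ M → ρ b = a * ρ M → a = ρ (ρ M) := by
    intro a b ha hb f1 f2
    have f3 : ρ (ρ a) = a * M := by
      rw [f1, map_mul, f2, hrel M hM, mul_assoc, ← mul_assoc (ρ M), hcommC _ (hCρ _ hM) M,
        mul_assoc, hC2 _ (hCρ _ hM), mul_one]
    rw [hrel a ha, mul_right_inj] at f3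
    rw [← f3, hcube]
  exact ⟨key A B hA hB e1 e2, key B A hB hA e2 e1⟩

namespace IsFourFixed

variable [Finite T] {τ ρ : MulAut T} (h : IsFourFixed τ ρ)
include h

theorem rel {v : T} (hv : v ∈ Fix τ) : ρ (ρ v) = v * ρ v := by
  have h1 := h.prod_orbit_eq_one (h.central hv (ρ v)) (h.central hv (ρ (ρ v)))
  rw [mul_eq_one_iff_eq_inv'] at h1
  rw [h1]
  exact inv_eq_of_mul_eq_one_right (h.sq_eq_one ((Fix τ).mul_mem hv (h.rho_mem_fix hv)))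

/-- The rule for values among the fixed points. -/
theorem rule {X Y : Subgroup T} (hXρ : ∀ x ∈ X, ρ x ∈ X) (hYρ : ∀ y ∈ Y, ρ y ∈ Y)
    (hval : ∀ x ∈ X, ∀ y ∈ Y, ⁅x, y⁆ ∈ Fix τ)
    (hX : ∀ x ∈ X, ∀ y ∈ Y, ⁅x * ρ x * ρ (ρ x), y⁆ = 1)
    (hY : ∀ x ∈ X, ∀ y ∈ Y, ⁅x, y * ρ y * ρ (ρ y)⁆ = 1) {x y : T} (hx : x ∈ X) (hy : y ∈ Y) :
    ⁅ρ x, y⁆ = ρ (ρ ⁅x, y⁆) ∧ ⁅x, ρ y⁆ = ρ (ρ ⁅x, y⁆) :=
  pairing_rule ρ hXρ hYρ h.cube (fun _ hc => h.rho_mem_fix hc) h.fix_le_center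
    (fun _ hc => h.sq_eq_one hc) (fun _ hc => h.rel hc) hval hX hY hx hy

theorem comm_central_eq_one {x y : T} (hx : x ∈ Fix τ) : ⁅x, y⁆ = 1 :=
  commutatorElement_eq_one_iff_commute.mpr (h.central hx y)

/-- If the fixed points absorb all commutators, an element and its `ρ`-image commute. -/
theorem commute_rho (hval : ∀ x y : T, ⁅x, y⁆ ∈ Fix τ)
    (hrel : ∀ x : T, x * ρ x * ρ (ρ x) ∈ Fix τ) (x : T) : Commute x (ρ x) := by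
  have h1 := (h.rule (X := ⊤) (Y := ⊤) (fun _ _ => Subgroup.mem_top _) (fun _ _ => Subgroup.mem_top _)
    (fun x _ y _ => hval x y) (fun x _ y _ => h.comm_central_eq_one (hrel x))
    (fun x _ y _ => commutatorElement_eq_one_iff_commute.mpr ((h.central (hrel y) x).symm))
    (x := x) (y := x) (Subgroup.mem_top _) (Subgroup.mem_top _)).2
  rw [commutatorElement_self, map_one, map_one] at h1
  exact commutatorElement_eq_one_iff_commute.mp h1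

end IsFourFixed

end Cfsg.Agent.Lib.FourFixed58
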