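import Cfsg.Agent.Lib.FourFixed58.Basic

/-!
# The quotient by the fixed points
-/

set_option autoImplicit false

namespace Cfsg.Agent.Lib.FourFixed58

namespace IsFourFixed

variable {T : Type*} [Group T] [Finite T] {τ ρ : MulAut T} (h : IsFourFixed τ ρ)
include h

theorem central {v : T} (hv : v ∈ Fix τ) (g : T) : Commute v g :=
  (Subgroup.mem_center_iff.mp (h.fix_le_center hv) g).symm

theorem fix_normal : (Fix τ).Normal :=
  ⟨fun v hv g => by rw [← (h.central hv g).eq, mul_inv_cancel_right]; exact hv⟩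

omit [Finite T] in
theorem map_fix {σ : MulAut T} (hσ : σ = τ ∨ σ = ρ) : (Fix τ).map σ.toMonoidHom = Fix τ := by
  ext x
  obtain ⟨x, rfl⟩ := σ.surjective x
  change σ.toMonoidHom x ∈ _ ↔ _
  rw [Subgroup.mem_map_iff_mem σ.injective]
  change τ x = x ↔ τ (σ x) = σ x
  rcases hσ with rfl | rfl
  · exact ⟨fun e => by rw [e, e], fun e => σ.injective e⟩
  · exact ⟨fun e => by rw [h.comm, e], fun e => σ.injective ((h.comm x).symm.trans e)⟩

/-- Unless `τ = 1`, the quotient by the fixed points satisfies the hypothesis again. -/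
theorem exists_quotient [(Fix τ).Normal] (hne : Fix τ ≠ ⊤) :
    ∃ τ' ρ' : MulAut (T ⧸ Fix τ), IsFourFixed τ' ρ' ∧
      (∀ x : T, τ' (x : T ⧸ Fix τ) = ((τ x : T) : T ⧸ Fix τ)) ∧
      (∀ x : T, ρ' (x : T ⧸ Fix τ) = ((ρ x : T) : T ⧸ Fix τ)) := by
  classical
  set τ' : MulAut (T ⧸ Fix τ) := QuotientGroup.congr (Fix τ) (Fix τ) τ (h.map_fix (Or.inl rfl))
  set ρ' : MulAut (T ⧸ Fix τ) := QuotientGroup.congr (Fix τ) (Fix τ) ρ (h.map_fix (Or.inr rfl))
  have hτ' : ∀ x : T, τ' (x : T ⧸ Fix τ) = ((τ x : T) : T ⧸ Fix τ) := fun x => rfl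
  have hρ' : ∀ x : T, ρ' (x : T ⧸ Fix τ) = ((ρ x : T) : T ⧸ Fix τ) := fun x => rfl
  have hfix : ∀ x : T, τ' (x : T ⧸ Fix τ) = x ↔ x⁻¹ * τ x ∈ Fix τ := fun x => by
    rw [hτ', eq_comm, QuotientGroup.eq]
  -- the elements fixed modulo the fixed points
  let W : Subgroup T :=
    { carrier := {x | x⁻¹ * τ x ∈ Fix τ}
      one_mem' := by simp
      mul_mem' := fun {x y} hx hy => by
        show (x * y)⁻¹ * τ (x * y) ∈ Fix τ
        have e : (x * y)⁻¹ * τ (x * y) = (x⁻¹ * τ x) * (y⁻¹ * τ y) := by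
          rw [mul_inv_rev, map_mul, ← mul_assoc (x⁻¹ * τ x), (h.central hx y⁻¹).eq]
          group
        rw [e]; exact (Fix τ).mul_mem hx hy
      inv_mem' := fun {x} hx => by
        show x⁻¹⁻¹ * τ x⁻¹ ∈ Fix τ
        have e : x⁻¹⁻¹ * τ x⁻¹ = (x⁻¹ * τ x)⁻¹ := by
          have := ((h.central hx x).inv_left).eq
          rw [map_inv, inv_inv, mul_inv_rev, inv_inv]
          rw [mul_inv_rev, inv_inv] at this
          exact (by
            have h2 : x * ((τ x)⁻¹ * x) = (τ x)⁻¹ * x * x := this.symm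
            calc x * (τ x)⁻¹ = x * ((τ x)⁻¹ * x) * x⁻¹ := by group
              _ = (τ x)⁻¹ * x := by rw [h2]; group)
        rw [e]; exact (Fix τ).inv_mem hx }
  let d : W →* Fix τ :=
    { toFun := fun x => ⟨(x : T)⁻¹ * τ x, x.2⟩
      map_one' := Subtype.ext (by simp)
      map_mul' := fun x y => Subtype.ext (by
        show ((x : T) * y)⁻¹ * τ ((x : T) * y) = ((x : T)⁻¹ * τ x) * ((y : T)⁻¹ * τ y)
        rw [mul_inv_rev, map_mul, ← mul_assoc ((x : T)⁻¹ * τ x), (h.central x.2 (y : T)⁻¹).eq]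
        group) }
  let e : W →* Fix τ' := (((QuotientGroup.mk' (Fix τ)).comp W.subtype).codRestrict (Fix τ')
    fun x => (hfix x).mpr x.2)
  have he : Function.Surjective e := by
    rintro ⟨y, hy⟩
    obtain ⟨x, rfl⟩ := QuotientGroup.mk_surjective y
    exact ⟨⟨x, (hfix x).mp hy⟩, rfl⟩
  have hker : e.ker = d.ker := by
    ext x
    simp only [MonoidHom.mem_ker]
    rw [Subtype.ext_iff, Subtype.ext_iff]
    show ((x : T) : T ⧸ Fix τ) = 1 ↔ (x : T)⁻¹ * τ x = 1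
    rw [QuotientGroup.eq_one_iff, mem_Fix, inv_mul_eq_one, eq_comm]
  -- some element outside the fixed points is fixed modulo them
  obtain ⟨x₀, hx₀, hx₀W⟩ : ∃ x, x ∉ Fix τ ∧ x ∈ W := by
    have hne' : (⊤ : Subgroup (T ⧸ Fix τ)) ≠ ⊥ := fun e0 => hne <| by
      refine eq_top_iff.mpr fun x _ => (QuotientGroup.eq_one_iff x).mp ?_
      exact Subgroup.mem_bot.mp (e0 ▸ Subgroup.mem_top _)
    obtain ⟨y, -, hy1, hy⟩ := exists_fixed (h.pgroup.to_quotient (Fix τ)) (τ := τ') (fun y => by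
      obtain ⟨x, rfl⟩ := QuotientGroup.mk_surjective y
      rw [hτ', hτ', h.inv]) (fun _ _ => Subgroup.mem_top _) hne'
    obtain ⟨x, rfl⟩ := QuotientGroup.mk_surjective y
    exact ⟨x, fun hx => hy1 ((QuotientGroup.eq_one_iff x).mpr hx), (hfix x).mp hy⟩
  have hd : Function.Surjective d := by
    have hle : Fix τ ≤ d.range.map (Fix τ).subtype := by
      refine h.fix_le ?_ ?_ ?_
      · rintro _ ⟨v, hv, rfl⟩
        exact ⟨v, hv, v.2.symm⟩
      · rintro _ ⟨_, ⟨⟨x, hx⟩, rfl⟩, rfl⟩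
        refine ⟨d ⟨ρ x, ?_⟩, ⟨_, rfl⟩, ?_⟩
        · show (ρ x)⁻¹ * τ (ρ x) ∈ Fix τ
          rw [h.comm, ← map_inv, ← map_mul]; exact h.rho_mem_fix hx
        · show (ρ x)⁻¹ * τ (ρ x) = ρ (x⁻¹ * τ x)
          rw [h.comm, map_mul, map_inv]
      · intro hbot
        refine hx₀ ?_
        have h1 : x₀⁻¹ * τ x₀ ∈ d.range.map (Fix τ).subtype := ⟨d ⟨x₀, hx₀W⟩, ⟨_, rfl⟩, rfl⟩
        rw [hbot, Subgroup.mem_bot, inv_mul_eq_one] at h1
        exact mem_Fix.mpr h1.symm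
    intro v
    obtain ⟨v', ⟨x, hx⟩, hv'⟩ := hle v.2
    exact ⟨x, hx.trans (Subtype.ext hv')⟩
  refine ⟨τ', ρ', ⟨h.pgroup.to_quotient _, ?_, ?_, ?_, ?_, ?_⟩, hτ', hρ'⟩
  · intro y
    obtain ⟨x, rfl⟩ := QuotientGroup.mk_surjective y
    rw [hτ', hτ', h.inv]
  · intro y
    obtain ⟨x, rfl⟩ := QuotientGroup.mk_surjective y
    rw [hρ', hρ', hρ', h.cube]
  · intro y
    obtain ⟨x, rfl⟩ := QuotientGroup.mk_surjective y
    rw [hρ', hτ', hτ', hρ', h.comm]
  · show Nat.card (Fix τ') = 4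
    rw [← Nat.card_congr (QuotientGroup.quotientKerEquivOfSurjective e he).toEquiv, hker,
      Nat.card_congr (QuotientGroup.quotientKerEquivOfSurjective d hd).toEquiv]
    exact h.card_fix
  · intro y hyτ hyρ
    obtain ⟨x, rfl⟩ := QuotientGroup.mk_surjective y
    have hxW : x⁻¹ * τ x ∈ Fix τ := (hfix x).mp hyτ
    rw [hρ', eq_comm, QuotientGroup.eq] at hyρ
    -- `ρ` fixes `x⁻¹ τ x`
    have hv := h.central hyρ
    have e1 : ρ (x⁻¹ * τ x) = x⁻¹ * τ x := by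
      have e2 : ρ x = x * (x⁻¹ * ρ x) := by group
      have e3 : τ (ρ x) = τ x * (x⁻¹ * ρ x) := by
        conv_lhs => rw [e2, map_mul, mem_Fix.mp hyρ]
      rw [map_mul, map_inv, ← h.comm, e3]
      nth_rw 1 [e2]
      rw [mul_inv_rev, mul_assoc, ← mul_assoc x⁻¹ (τ x), ← mul_assoc]
      rw [((hv (x⁻¹ * τ x)).inv_left).eq, inv_mul_cancel_right]
    have h1 := h.fpf _ hxW e1
    rw [inv_mul_eq_one] at h1
    exact (QuotientGroup.eq_one_iff x).mpr (mem_Fix.mpr h1.symm)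

end IsFourFixed

end Cfsg.Agent.Lib.FourFixed58
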